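import Groth.Agent.AlgSt.K735.SpFp
import Groth.Agent.AlgSt.K734.FibFp
import Groth.Agent.AlgSt.K743.BC
import Groth.Prelude.Def_AlgSt3

/-!
# Base change of a represented 2-fibre product (helper742)
-/

set_option autoImplicit false
set_option backward.isDefEq.respectTransparency false
set_option backward.isDefEq.respectTransparency.types false

universe v₅ u₅ v₄ u₄ v₃ u₃ v₂ u₂ v u

open CategoryTheory CategoryTheory.Limits AlgebraicGeometry Opposite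
open K735.Fib K735.Rep K735.SpFp

namespace K742.RepBC

variable {S : Scheme.{u}} {𝒳 : BasedCategory.{v₂, u₂} (Over S)} {𝒴 : BasedCategory.{v₃, u₃} (Over S)}

/-- Representing spaces are compatible with base change along morphisms of schemes. -/
theorem exists_rep_bc {U T : Over S} (y : FibCat.overCat U ⥤ᵇ 𝒴) (f : 𝒳 ⥤ᵇ 𝒴) {F : AlgSp.Sp S}
    (e : AlgSt.ofSp F ⥤ᵇ FibCat.fp y f) (he : FibCat.IsEquivOver e) (g : T ⟶ U) {P : AlgSp.Sp S}
    (fst : P ⟶ (AlgSp.yon S).obj T) (snd : P ⟶ F)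
    (sq : IsPullback fst snd ((AlgSp.yon S).map g) (AlgSt.spMapOfOver (BasedFunctor.comp e (FibCat.fpFst y f)))) :
    ∃ e' : AlgSt.ofSp P ⥤ᵇ FibCat.fp (BasedFunctor.comp (AlgSt.overMap g) y) f, FibCat.IsEquivOver e' ∧
      AlgSt.spMapOfOver (BasedFunctor.comp e' (FibCat.fpFst (BasedFunctor.comp (AlgSt.overMap g) y) f)) = fst ∧
      Nonempty (BasedFunctor.comp e' (FibCat.fpSnd (BasedFunctor.comp (AlgSt.overMap g) y) f) ≅
        BasedFunctor.comp (AlgSt.ofSpMap snd) (BasedFunctor.comp e (FibCat.fpSnd y f))) := by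
  obtain ⟨i⟩ := exists_iso_spMapOfOver (BasedFunctor.comp e (FibCat.fpFst y f))
  set q := AlgSt.spMapOfOver (BasedFunctor.comp e (FibCat.fpFst y f)) with hq
  -- `ofSp P ⟶ (Sch/T) ×_{(Sch/U)} ((Sch/U) ×_𝒴 𝒳)`
  let E₁ := theta sq.w
  let E₂ : FibCat.fp (AlgSt.ofSpMap ((AlgSp.yon S).map g)) (AlgSt.ofSpMap q) ⥤ᵇ
      FibCat.fp (AlgSt.overMap g) (BasedFunctor.comp (AlgSt.ofSpMap q) (AlgSt.toOverCat U)) :=
    K735.Fp.fpMap _ _ _ _ (AlgSt.toOverCat T) (BasedFunctor.id _) (AlgSt.toOverCat U) (Iso.refl _) (Iso.refl _)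
  have hE₂ : FibCat.IsEquivOver E₂ :=
    K735.Fp.isEquivOver_fpMap' _ _ _ _ _ _ _ _ _ (isEquivOver_toOverCat T) isEquivOver_id (isEquivOver_toOverCat U)
  let E₃ : FibCat.fp (AlgSt.overMap g) (BasedFunctor.comp (AlgSt.ofSpMap q) (AlgSt.toOverCat U)) ⥤ᵇ
      FibCat.fp (AlgSt.overMap g) (BasedFunctor.comp e (FibCat.fpFst y f)) := K734.Fib.fpCongrR _ i
  have hE₃ : FibCat.IsEquivOver E₃ := K734.Fib.isEquivOver_fpCongrR _ i
  let E₄ : FibCat.fp (AlgSt.overMap g) (BasedFunctor.comp e (FibCat.fpFst y f)) ⥤ᵇ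
      FibCat.fp (AlgSt.overMap g) (FibCat.fpFst y f) := K734.Fib.fpPreR _ e _
  have hE₄ : FibCat.IsEquivOver E₄ := K734.Fib.isEquivOver_fpPreR _ e he _
  obtain ⟨Θ, ⟨α⟩, ⟨β⟩⟩ := K734.Fib.isEquivOver_fpPaste (AlgSt.overMap g) y f
  let E : AlgSt.ofSp P ⥤ᵇ FibCat.fp (AlgSt.overMap g) (FibCat.fpFst y f) :=
    BasedFunctor.comp E₁ (BasedFunctor.comp E₂ (BasedFunctor.comp E₃ E₄))
  have hE : FibCat.IsEquivOver E :=
    IsEquivOver.comp (isEquivOver_theta sq) (IsEquivOver.comp hE₂ (IsEquivOver.comp hE₃ hE₄))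
  refine ⟨BasedFunctor.comp E Θ, IsEquivOver.comp hE (K743.BC.isEquivOver_inv α β), ?_, ?_⟩
  · have key : BasedFunctor.comp (BasedFunctor.comp E Θ) (FibCat.fpFst (BasedFunctor.comp (AlgSt.overMap g) y) f) ≅
        BasedFunctor.comp E (FibCat.fpFst (AlgSt.overMap g) (FibCat.fpFst y f)) :=
      whiskerLeftIso E (whiskerRightIso β (FibCat.fpFst (AlgSt.overMap g) (FibCat.fpFst y f)))
    rw [spMapOfOver_eq_of_iso key]
    exact spMapOfOver_ofSpMap_toOverCat fst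
  · exact ⟨whiskerLeftIso E (whiskerRightIso β
      (BasedFunctor.comp (FibCat.fpSnd (AlgSt.overMap g) (FibCat.fpFst y f)) (FibCat.fpSnd y f)))⟩

end K742.RepBC
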