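import Groth.Agent.AlgSt.K735.Rep
import Groth.Agent.AlgSt.K743.DiagBC

/-!
# Base change (both projections) and composition of `RepByAlgSpWith` through scheme-representable factors (helper742)
-/

set_option autoImplicit false
set_option backward.isDefEq.respectTransparency false
set_option backward.isDefEq.respectTransparency.types false

universe v₅ u₅ v₄ u₄ v₃ u₃ v₂ u₂ v u

open CategoryTheory CategoryTheory.Limits AlgebraicGeometry Opposite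
open K735.Fib K735.Rep

namespace K742.RepComp

section Fib

variable {C : Type u} [Category.{v} C] {𝒳 : BasedCategory.{v₂, u₂} C} {𝒴 : BasedCategory.{v₃, u₃} C}
  {𝒵 : BasedCategory.{v₄, u₄} C} {𝒲 : BasedCategory.{v₅, u₅} C}

/-- The 2-fibre product square, read as a 2-cartesian base change of the second functor. -/
theorem isCart_fpFst (g : 𝒵 ⥤ᵇ 𝒴) (f : 𝒳 ⥤ᵇ 𝒴) :
    K743.BC.IsCart (FibCat.fpFst g f) f (FibCat.fpSnd g f) g (FibCat.fpIso g f) where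
  full := ⟨fun {x y} φ => ⟨φ, rfl⟩⟩
  faithful := ⟨fun {x y} φ ψ h => h⟩
  surj := fun η => ⟨η, Iso.refl _, IsHomLift.id rfl⟩

/-- The 2-fibre product square, read as a 2-cartesian base change of the first functor. -/
theorem isCart_fpSnd (g : 𝒵 ⥤ᵇ 𝒴) (f : 𝒳 ⥤ᵇ 𝒴) :
    K743.BC.IsCart (FibCat.fpSnd g f) g (FibCat.fpFst g f) f (FibCat.fpIso g f).symm where
  full := ⟨fun {x y} φ => by
    refine ⟨ObjectProperty.homMk ⟨φ.hom.snd, φ.hom.fst, ?_⟩, rfl⟩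
    have h : f.map φ.hom.fst ≫ y.obj.iso.inv = x.obj.iso.inv ≫ g.map φ.hom.snd := φ.hom.w
    rw [Iso.comp_inv_eq, Category.assoc, Iso.eq_inv_comp] at h
    exact h.symm⟩
  faithful := ⟨fun {x y} φ ψ h => by
    have h1 : φ.hom.snd = ψ.hom.snd := congrArg (fun k => k.hom.fst) h
    have h2 : φ.hom.fst = ψ.hom.fst := congrArg (fun k => k.hom.snd) h
    exact ObjectProperty.hom_ext _ (CategoricalPullback.hom_ext h2 h1)⟩
  surj := fun η => by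
    have h1 : 𝒴.p.IsHomLift (𝟙 (𝒳.p.obj η.obj.fst)) η.obj.iso.hom := η.property
    have h2 : 𝒵.p.obj η.obj.snd = 𝒳.p.obj η.obj.fst := (FibCat.fpSnd f g).w_obj η
    have h3 : 𝒴.p.IsHomLift (𝟙 (𝒵.p.obj η.obj.snd)) η.obj.iso.inv := by
      rw [h2]
      exact IsHomLift.lift_id_inv _ _ _
    refine ⟨⟨⟨η.obj.snd, η.obj.fst, η.obj.iso.symm⟩, h3⟩, ?_, ?_⟩
    · refine ObjectProperty.isoMk _ (CategoricalPullback.mkIso (Iso.refl _) (Iso.refl _) ?_)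
      change f.map (𝟙 _) ≫ η.obj.iso.hom = η.obj.iso.hom ≫ g.map (𝟙 _)
      rw [f.toFunctor.map_id, g.toFunctor.map_id]
      exact (Category.id_comp _).trans (Category.comp_id _).symm
    · rw [← BasedFunctor.isHomLift_iff (FibCat.fpFst f g)]
      exact IsHomLift.id rfl

/-- `𝒲 ×_𝒵 𝒴 ×_𝒴 𝒳 ⟶ 𝒲 ×_𝒵 𝒳`. -/
def pasteComp (h : 𝒲 ⥤ᵇ 𝒵) (g : 𝒴 ⥤ᵇ 𝒵) (f : 𝒳 ⥤ᵇ 𝒴) :
    FibCat.fp (FibCat.fpSnd h g) f ⥤ᵇ FibCat.fp h (BasedFunctor.comp f g) :=
  FibCat.fpLift (BasedFunctor.comp (FibCat.fpFst (FibCat.fpSnd h g) f) (FibCat.fpFst h g)) (FibCat.fpSnd (FibCat.fpSnd h g) f)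
    (K743.BC.whiskerLeftIso (FibCat.fpFst (FibCat.fpSnd h g) f) (FibCat.fpIso h g) ≪≫
      K743.BC.whiskerRightIso (FibCat.fpIso (FibCat.fpSnd h g) f) g)

theorem pasteComp_fst (h : 𝒲 ⥤ᵇ 𝒵) (g : 𝒴 ⥤ᵇ 𝒵) (f : 𝒳 ⥤ᵇ 𝒴) :
    BasedFunctor.comp (pasteComp h g f) (FibCat.fpFst h (BasedFunctor.comp f g)) =
      BasedFunctor.comp (FibCat.fpFst (FibCat.fpSnd h g) f) (FibCat.fpFst h g) := rfl

theorem isEquivOver_pasteComp (h : 𝒲 ⥤ᵇ 𝒵) (g : 𝒴 ⥤ᵇ 𝒵) (f : 𝒳 ⥤ᵇ 𝒴) : FibCat.IsEquivOver (pasteComp h g f) := by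
  refine K743.BC.isEquivOver_of_ff _ ⟨fun {x y} φ => ?_⟩ ⟨fun {x y} φ ψ hφ => ?_⟩ (fun η => ?_)
  · -- full
    let α : x.obj.fst.obj.fst ⟶ y.obj.fst.obj.fst := φ.hom.fst
    let γ : x.obj.snd ⟶ y.obj.snd := φ.hom.snd
    have w : h.map α ≫ (y.obj.fst.obj.iso.hom ≫ g.map y.obj.iso.hom) =
        (x.obj.fst.obj.iso.hom ≫ g.map x.obj.iso.hom) ≫ g.map (f.map γ) := φ.hom.w
    let β : x.obj.fst.obj.snd ⟶ y.obj.fst.obj.snd := x.obj.iso.hom ≫ f.map γ ≫ y.obj.iso.inv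
    have hβ : h.map α ≫ y.obj.fst.obj.iso.hom = x.obj.fst.obj.iso.hom ≫ g.map β := by
      have e1 : g.map β ≫ g.map y.obj.iso.hom = g.map x.obj.iso.hom ≫ g.map (f.map γ) := by
        rw [← g.toFunctor.map_comp, ← g.toFunctor.map_comp]
        congr 1
        simp only [β, Category.assoc]
        erw [Iso.inv_hom_id, Category.comp_id]
      have e2 : (h.map α ≫ y.obj.fst.obj.iso.hom) ≫ g.map y.obj.iso.hom =
          (x.obj.fst.obj.iso.hom ≫ g.map β) ≫ g.map y.obj.iso.hom := by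
        rw [Category.assoc, Category.assoc, e1, w, Category.assoc]
      exact (cancel_mono (g.map y.obj.iso.hom)).1 e2
    refine ⟨ObjectProperty.homMk ⟨ObjectProperty.homMk ⟨α, β, hβ⟩, γ, ?_⟩, rfl⟩
    change β ≫ y.obj.iso.hom = x.obj.iso.hom ≫ f.map γ
    simp only [β, Category.assoc]
    erw [Iso.inv_hom_id, Category.comp_id]
  · -- faithful
    have h1 : φ.hom.fst.hom.fst = ψ.hom.fst.hom.fst := congrArg (fun k => k.hom.fst) hφ
    have h2 : φ.hom.snd = ψ.hom.snd := congrArg (fun k => k.hom.snd) hφ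
    have e1 : φ.hom.fst.hom.snd ≫ y.obj.iso.hom = x.obj.iso.hom ≫ f.map φ.hom.snd := φ.hom.w
    have e2 : ψ.hom.fst.hom.snd ≫ y.obj.iso.hom = x.obj.iso.hom ≫ f.map ψ.hom.snd := ψ.hom.w
    have h3 : φ.hom.fst.hom.snd = ψ.hom.fst.hom.snd := by
      rw [h2, ← e2] at e1
      exact (cancel_mono y.obj.iso.hom).1 e1
    exact ObjectProperty.hom_ext _ (CategoricalPullback.hom_ext
      (ObjectProperty.hom_ext _ (CategoricalPullback.hom_ext h1 h3)) h2)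
  · -- essentially surjective
    have h1 : 𝒵.p.IsHomLift (𝟙 (𝒲.p.obj η.obj.fst)) η.obj.iso.hom := η.property
    let a : (FibCat.fp h g).obj := ⟨⟨η.obj.fst, f.obj η.obj.snd, η.obj.iso⟩, h1⟩
    refine ⟨⟨⟨a, η.obj.snd, Iso.refl _⟩, ?_⟩, ObjectProperty.isoMk _ (CategoricalPullback.mkIso (Iso.refl _) (Iso.refl _) ?_), ?_⟩
    · change 𝒴.p.IsHomLift (𝟙 (𝒲.p.obj η.obj.fst)) (𝟙 (f.obj η.obj.snd))
      refine IsHomLift.id ?_
      rw [f.w_obj]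
      exact (FibCat.fpSnd h (BasedFunctor.comp f g)).w_obj η
    · change h.map (𝟙 _) ≫ η.obj.iso.hom = (η.obj.iso.hom ≫ g.map (𝟙 (f.obj η.obj.snd))) ≫ g.map (f.map (𝟙 _))
      rw [h.toFunctor.map_id, g.toFunctor.map_id, f.toFunctor.map_id, g.toFunctor.map_id, Category.id_comp, Category.comp_id]
      exact (Category.comp_id _).symm
    · rw [← BasedFunctor.isHomLift_iff (FibCat.fpFst h (BasedFunctor.comp f g))]
      exact IsHomLift.id rfl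

end Fib

section Rep

variable {S : Scheme.{u}} {𝒳 : BasedCategory.{v₂, u₂} (Over S)} {𝒴 : BasedCategory.{v₃, u₃} (Over S)}
  {𝒵 : BasedCategory.{v₄, u₄} (Over S)}

/-- `RepByAlgSpWith P` is stable under base change (first projection), for any `P`. -/
theorem repByAlgSpWith_fpFst {P : MorphismProperty (AlgSp.Sp S)} (g : 𝒵 ⥤ᵇ 𝒴) (f : 𝒳 ⥤ᵇ 𝒴)
    (h : AlgSt.RepByAlgSpWith P f) : AlgSt.RepByAlgSpWith P (FibCat.fpFst g f) :=
  (isCart_fpFst g f).repByAlgSpWith h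

/-- `RepByAlgSpWith P` is stable under base change (second projection), for any `P`. -/
theorem repByAlgSpWith_fpSnd {P : MorphismProperty (AlgSp.Sp S)} (g : 𝒵 ⥤ᵇ 𝒴) (f : 𝒳 ⥤ᵇ 𝒴)
    (h : AlgSt.RepByAlgSpWith P g) : AlgSt.RepByAlgSpWith P (FibCat.fpSnd g f) :=
  (isCart_fpSnd g f).repByAlgSpWith h

/-- `spMapOfOver` of a composite through a slice. -/
theorem spMapOfOver_comp {F : AlgSp.Sp S} {W U : Over S} (Φ : AlgSt.ofSp F ⥤ᵇ FibCat.overCat W)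
    (Ψ : FibCat.overCat W ⥤ᵇ FibCat.overCat U) :
    AlgSt.spMapOfOver (BasedFunctor.comp Φ Ψ) =
      AlgSt.spMapOfOver Φ ≫ AlgSt.spMapOfOver (BasedFunctor.comp (AlgSt.toOverCat W) Ψ) := by
  obtain ⟨i⟩ := exists_iso_spMapOfOver Φ
  rw [← spMapOfOver_comp_ofSpMap]
  exact spMapOfOver_eq_of_iso (whiskerRightIso i Ψ)

/-- Composition of `f` with a functor `g` all of whose base changes to schemes are schemes. -/
theorem repByAlgSpWith_comp {P Q R : MorphismProperty (AlgSp.Sp S)} [Q.RespectsIso]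
    (hQ : ∀ ⦃F : AlgSp.Sp S⦄ ⦃U : Over S⦄ (a : F ⟶ (AlgSp.yon S).obj U), AlgSp.IsAlgSpace F → Q a →
      ∃ W : Over S, Nonempty ((AlgSp.yon S).obj W ≅ F))
    (hR : ∀ ⦃F : AlgSp.Sp S⦄ ⦃W U : Over S⦄ (a : F ⟶ (AlgSp.yon S).obj W) (b : (AlgSp.yon S).obj W ⟶ (AlgSp.yon S).obj U),
      P a → Q b → R (a ≫ b))
    (f : 𝒳 ⥤ᵇ 𝒴) (g : 𝒴 ⥤ᵇ 𝒵) (hf : AlgSt.RepByAlgSpWith P f) (hg : AlgSt.RepByAlgSpWith Q g) :
    AlgSt.RepByAlgSpWith R (BasedFunctor.comp f g) := by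
  intro U z
  obtain ⟨F, e, he, hq⟩ := hg U z
  obtain ⟨W, ⟨i⟩⟩ := hQ _ F.property hq
  -- the chart `(Sch/W) ⟶ U ×_𝒵 𝒴`
  let c : FibCat.overCat W ⥤ᵇ FibCat.fp z g :=
    BasedFunctor.comp (AlgSt.ofOverCat W) (BasedFunctor.comp (AlgSt.ofSpMap i.hom) e)
  have hc : FibCat.IsEquivOver c :=
    IsEquivOver.comp (isEquivOver_ofOverCat W) (IsEquivOver.comp (isEquivOver_ofSpMap_of_isIso i.hom) he)
  obtain ⟨G, e', he', hp⟩ := hf W (BasedFunctor.comp c (FibCat.fpSnd z g))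
  -- the pasting
  let k : FibCat.fp (BasedFunctor.comp c (FibCat.fpSnd z g)) f ⥤ᵇ FibCat.fp (FibCat.fpSnd z g) f :=
    K735.Fp.fpMap _ _ _ _ c (BasedFunctor.id _) (BasedFunctor.id _) (Iso.refl _) (Iso.refl _)
  have hk : FibCat.IsEquivOver k :=
    K735.Fp.isEquivOver_fpMap' _ _ _ _ _ _ _ _ _ hc isEquivOver_id isEquivOver_id
  refine ⟨G, BasedFunctor.comp e' (BasedFunctor.comp k (pasteComp z g f)),
    IsEquivOver.comp he' (IsEquivOver.comp hk (isEquivOver_pasteComp z g f)), ?_⟩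
  have key : AlgSt.spMapOfOver (BasedFunctor.comp (BasedFunctor.comp e' (BasedFunctor.comp k (pasteComp z g f)))
        (FibCat.fpFst z (BasedFunctor.comp f g))) =
      AlgSt.spMapOfOver (BasedFunctor.comp e' (FibCat.fpFst (BasedFunctor.comp c (FibCat.fpSnd z g)) f)) ≫
        AlgSt.spMapOfOver (BasedFunctor.comp (AlgSt.toOverCat W) (BasedFunctor.comp c (FibCat.fpFst z g))) :=
    spMapOfOver_comp (BasedFunctor.comp e' (FibCat.fpFst (BasedFunctor.comp c (FibCat.fpSnd z g)) f))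
      (BasedFunctor.comp c (FibCat.fpFst z g))
  rw [key]
  refine hR _ _ hp ?_
  have key2 : AlgSt.spMapOfOver (BasedFunctor.comp (AlgSt.toOverCat W) (BasedFunctor.comp c (FibCat.fpFst z g))) =
      i.hom ≫ AlgSt.spMapOfOver (BasedFunctor.comp e (FibCat.fpFst z g)) :=
    spMapOfOver_comp_ofSpMap i.hom (BasedFunctor.comp e (FibCat.fpFst z g))
  rw [key2]
  exact (MorphismProperty.cancel_left_of_respectsIso Q i.hom _).2 hq

end Rep

end K742.RepComp
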