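import Groth.Agent.AlgSt.K742.QC
import Groth.Agent.AlgSt.K742.RepBC
import Groth.Agent.AlgSt.K742.RepComp
import Groth.Agent.AlgSp.K596.QC2

/-!
# Quasi-compact morphisms: representable case (helper742)
-/

set_option autoImplicit false
set_option backward.isDefEq.respectTransparency false
set_option backward.isDefEq.respectTransparency.types false

universe u

open CategoryTheory CategoryTheory.Limits AlgebraicGeometry Opposite
open K735.Fib K735.Rep K735.SpFp K735.Fp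

namespace K742.QC

variable {S : Scheme.{u}} {𝒳 𝒴 𝒵 𝒲 : AlgSt.Cat S}

local notation "Alg" => AlgSt.IsAlgStack Scheme.fppfPrecoverage

/-- Compactness of the points of a category represented by an algebraic space. -/
theorem compactSpace_points_iff {F : AlgSp.Sp S} (hF : AlgSp.IsAlgSpace F) (h𝒳 : Alg 𝒳) (e : AlgSt.ofSp F ⥤ᵇ 𝒳)
    (he : FibCat.IsEquivOver e) : CompactSpace (AlgSt.Points 𝒳) ↔ AlgSp.IsQuasiCompactSp F := by
  obtain ⟨d, ⟨α⟩, ⟨β⟩⟩ := he
  have he' : FibCat.IsEquivOver e := ⟨d, ⟨α⟩, ⟨β⟩⟩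
  have hd' : FibCat.IsEquivOver d := K743.BC.isEquivOver_inv α β
  constructor
  · intro h
    have h1 : Continuous (AlgSt.Points.map d) := K735.Top.continuous_map (K735.Top.chartCont_ofSp hF) d
    have h2 := (K735.Pts.map_bijective_of_isEquivOver hd').2
    have h3 : CompactSpace (AlgSt.Points (AlgSt.ofSp F)) :=
      ⟨by rw [← h2.range_eq]; exact isCompact_range h1⟩
    have h4 : CompactSpace (AlgSp.Points F) := (K735.Top.ptsHomeo hF).compactSpace
    exact K609.QC.isQuasiCompactSp_of_compactSpace hF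
  · intro h
    have h4 : CompactSpace (AlgSp.Points F) := K609.QC.compactSpace_points h
    have h3 : CompactSpace (AlgSt.Points (AlgSt.ofSp F)) := (K735.Top.ptsHomeo hF).symm.compactSpace
    have h1 : Continuous (AlgSt.Points.map e) := K735.Top.continuous_map (K735.Top.chartCont_of_isAlgStack h𝒳) e
    have h2 := (K735.Pts.map_bijective_of_isEquivOver he').2
    exact ⟨by rw [← h2.range_eq]; exact isCompact_range h1⟩

theorem isQuasiCompact_iff (h𝒳 : Alg 𝒳) : AlgSt.IsQuasiCompact 𝒳 ↔ CompactSpace (AlgSt.Points 𝒳) :=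
  ⟨K742.QCTop.compactSpace_of_isQuasiCompact h𝒳, K742.QCTop.isQuasiCompact_of_compactSpace h𝒳⟩

theorem isQuasiCompact_iff_of_rep {F : AlgSp.Sp S} (hF : AlgSp.IsAlgSpace F) (h𝒳 : Alg 𝒳) (e : AlgSt.ofSp F ⥤ᵇ 𝒳)
    (he : FibCat.IsEquivOver e) : AlgSt.IsQuasiCompact 𝒳 ↔ AlgSp.IsQuasiCompactSp F :=
  (isQuasiCompact_iff h𝒳).trans (compactSpace_points_iff hF h𝒳 e he)

theorem isQuasiCompact_overCat (T : Over S) [CompactSpace T.left] : AlgSt.IsQuasiCompact (FibCat.overCat T) :=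
  (isQuasiCompact_iff_of_rep (AlgSp.IsAlgSpace.yon_obj T) (isAlgStack_overCat T) (AlgSt.toOverCat T)
    (isEquivOver_toOverCat T)).2 (K596.QC.isQuasiCompactSp_yon T)

/-- S12981, first half. -/
theorem isQuasiCompactMor_of_repByAlgSpWith (h𝒳 : Alg 𝒳) (h𝒴 : Alg 𝒴) (f : 𝒳 ⥤ᵇ 𝒴)
    (h : AlgSt.RepByAlgSpWith AlgSp.IsQuasiCompactMor f) : AlgSt.IsQuasiCompactMor Scheme.fppfPrecoverage f := by
  refine isQuasiCompactMor_of_affine h𝒳 h𝒴 f fun T hT y => ?_
  obtain ⟨F, e, he, hq⟩ := h T y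
  have h1 : Alg (FibCat.fp y f) := isAlgStack_fp (isAlgStack_overCat T) h𝒳 h𝒴 y f
  rw [isQuasiCompact_iff_of_rep F.property h1 e he]
  have : CompactSpace T.left := inferInstance
  have sq : IsPullback (𝟙 F.obj) (AlgSt.spMapOfOver (BasedFunctor.comp e (FibCat.fpFst y f)))
      (AlgSt.spMapOfOver (BasedFunctor.comp e (FibCat.fpFst y f))) (𝟙 _) := IsPullback.of_horiz_isIso ⟨by simp⟩
  exact hq (AlgSp.IsAlgSpace.yon_obj T) (K596.QC.isQuasiCompactSp_yon T) (𝟙 _) (𝟙 _) _ sq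

theorem isQuasiCompactMor_respectsIso : (AlgSp.IsQuasiCompactMor (S := S)).RespectsIso := by
  refine MorphismProperty.RespectsIso.mk _ ?_ ?_
  · intro F F' G i f hf Z Z' hZ hZc g fst snd sq
    exact hf hZ hZc g (fst ≫ i.hom) snd (IsPullback.of_iso sq (Iso.refl _) i (Iso.refl _) (Iso.refl _) (by simp) (by simp)
      (by simp) (by simp))
  · intro F G G' i f hf Z Z' hZ hZc g fst snd sq
    exact hf hZ hZc (g ≫ i.inv) fst snd (IsPullback.of_iso sq (Iso.refl _) (Iso.refl _) (Iso.refl _) i.symm (by simp)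
      (by simp) (by simp) (by simp))

/-- S12981. -/
theorem repByAlgSpWith_isQuasiCompactMor_iff (h𝒳 : Alg 𝒳) (h𝒴 : Alg 𝒴) (f : 𝒳 ⥤ᵇ 𝒴) (hf : AlgSt.RepByAlgSp1 f) :
    AlgSt.RepByAlgSpWith AlgSp.IsQuasiCompactMor f ↔ AlgSt.IsQuasiCompactMor Scheme.fppfPrecoverage f := by
  refine ⟨isQuasiCompactMor_of_repByAlgSpWith h𝒳 h𝒴 f, fun h => ?_⟩
  have := isQuasiCompactMor_respectsIso (S := S)
  refine K735.Top.repByAlgSpWith_of_rep hf fun U y F e he => ?_
  refine K596.QC.isQuasiCompactMor_of_affine F.property (AlgSp.IsAlgSpace.yon_obj U) fun Z hZ g P fst snd sq => ?_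
  obtain ⟨g', rfl⟩ := (AlgSp.yon S).map_surjective g
  obtain ⟨e', he', -, -⟩ := K742.RepBC.exists_rep_bc y f e he g' snd fst sq.flip
  have h1 : Alg (FibCat.fp (BasedFunctor.comp (AlgSt.overMap g') y) f) :=
    isAlgStack_fp (isAlgStack_overCat Z) h𝒳 h𝒴 _ f
  have hP : AlgSp.IsAlgSpace P := K613.Chart.isAlgSpace_of_isPullback (AlgSp.IsAlgSpace.yon_obj U).diag F.property
    (AlgSp.IsAlgSpace.yon_obj Z) sq
  have h2 : AlgSt.IsQuasiCompact (FibCat.overCat Z) := isQuasiCompact_overCat Z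
  have h3 := h _ (isAlgStack_overCat Z) h2 (BasedFunctor.comp (AlgSt.overMap g') y)
  rw [isQuasiCompact_iff_of_rep hP h1 e' he'] at h3
  exact K609.QC.compactSpace_points h3

/-- S12984. -/
theorem isQuasiCompactMor_of_repWith (h𝒳 : Alg 𝒳) (h𝒴 : Alg 𝒴) (f : 𝒳 ⥤ᵇ 𝒴) {P : MorphismProperty Scheme.{u}}
    (hP : P ≤ @QuasiCompact) (h : AlgSt.RepByAlgSpWith (AlgSp.RepWith P) f) :
    AlgSt.IsQuasiCompactMor Scheme.fppfPrecoverage f := by
  refine isQuasiCompactMor_of_repByAlgSpWith h𝒳 h𝒴 f (AlgSt_RepByAlgSpWith_mono ?_ h)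
  intro X Y g hg
  exact K596.QC.isQuasiCompactMor_of_repWith (K609.Points.repWith_mono (P := P) (Q := @QuasiCompact) (fun k hk => hP k hk) hg)

/-- The identity chart of a scheme is a homeomorphism onto the points of its slice. -/
theorem isOpenMap_left_iff {V T : Over S} (b : V ⟶ T) :
    IsOpenMap b.left ↔ IsOpenMap (AlgSt.Points.ofChart (AlgSt.overMap b)) := by
  have h1 : AlgSt.Points.ofChart (AlgSt.overMap b) =
      AlgSt.Points.ofChart (BasedFunctor.id (FibCat.overCat T)) ∘ b.left := by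
    funext t
    exact K735.PtsSp.ofChart_overMap b (BasedFunctor.id _) t
  have h2 : IsOpenMap (AlgSt.Points.ofChart (BasedFunctor.id (FibCat.overCat T))) :=
    K735.Top.isOpenMap_ofChart _ (by
      have : AlgSt.Points.map (BasedFunctor.id (FibCat.overCat T)) = id := funext K735.Pts.map_id
      rw [this]
      exact IsOpenMap.id)
  have h3 := K735.Top.continuous_ofChart_id T
  constructor
  · intro h
    rw [h1]
    exact h2.comp h
  · intro h W hW
    have := h W hW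
    rw [h1, Set.image_comp] at this
    have h4 := this.preimage h3
    rwa [Set.preimage_image_eq _ (K735.PtsSp.ofChart_id_bijective T).1] at h4

/-- Descent of quasi-compactness along a universally open surjective morphism of the target. -/
theorem isQuasiCompactMor_of_fpFst (h𝒳 : Alg 𝒳) (h𝒴 : Alg 𝒴) (h𝒵 : Alg 𝒵) (f : 𝒳 ⥤ᵇ 𝒴) (z : 𝒵 ⥤ᵇ 𝒴)
    (hz : AlgSt.IsSurjective z)
    (ho : ∀ (T : Over S) (y : FibCat.overCat T ⥤ᵇ 𝒴), AlgSt.IsOpenMor (FibCat.fpFst y z))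
    (h : AlgSt.IsQuasiCompactMor Scheme.fppfPrecoverage (FibCat.fpFst z f)) :
    AlgSt.IsQuasiCompactMor Scheme.fppfPrecoverage f := by
  refine isQuasiCompactMor_of_affine h𝒳 h𝒴 f fun T hT y => ?_
  have hT' := isAlgStack_overCat T
  have h1 : Alg (FibCat.fp y z) := isAlgStack_fp hT' h𝒵 h𝒴 y z
  obtain ⟨V, v, hv, hvs⟩ := h1.atlas
  obtain ⟨hvc, hvo, hvs'⟩ := K742.Noeth.ofChart_of_smooth_surjective h1 v hv hvs
  obtain ⟨b, ⟨i⟩⟩ := K735.Top.exists_iso_overMap (BasedFunctor.comp v (FibCat.fpFst y z))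
  have hb : AlgSt.Points.ofChart (AlgSt.overMap b) =
      AlgSt.Points.map (FibCat.fpFst y z) ∘ AlgSt.Points.ofChart v := by
    funext t
    exact (K735.PtsSp.ofChart_congr i t).symm
  have hbo : IsOpenMap b.left := by
    rw [isOpenMap_left_iff, hb]
    exact (ho T y).comp hvo
  have hbs : Function.Surjective b.left := by
    intro t
    obtain ⟨ω, hω⟩ := K735.Pts.surjective_fpFst h𝒵.isStack.1 hT'.isStack.1 h𝒴.isStack.1 y z hz
      (AlgSt.Points.ofChart (BasedFunctor.id _) t)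
    obtain ⟨s, hs⟩ := hvs' ω
    refine ⟨s, (K735.PtsSp.ofChart_id_bijective T).1 ?_⟩
    rw [← hω, ← hs]
    rw [← K735.PtsSp.ofChart_overMap]
    exact congrFun hb s
  have : CompactSpace T.left := inferInstance
  obtain ⟨W, g, hW, -, hgs⟩ := K742.QCTop.exists_affine_refinement b.left hbo hbs
  let T' : Over S := Over.mk (g ≫ V.hom)
  let g' : T' ⟶ V := Over.homMk g rfl
  have hWa : IsAffine T'.left := hW
  have hT'a := isAlgStack_overCat T'
  have h2 := h _ hT'a (isQuasiCompact_overCat T')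
    (BasedFunctor.comp (AlgSt.overMap g') (BasedFunctor.comp v (FibCat.fpSnd y z)))
  -- move along the pasting equivalence
  obtain ⟨Θ, ⟨α⟩, ⟨β⟩⟩ := K734.Fib.isEquivOver_fpPaste
    (BasedFunctor.comp (AlgSt.overMap g') (BasedFunctor.comp v (FibCat.fpSnd y z))) z f
  have h3 := isQuasiCompact_of_isEquivOver (isAlgStack_fp hT'a (isAlgStack_fp h𝒵 h𝒳 h𝒴 _ _) h𝒵 _ _)
    (isAlgStack_fp hT'a h𝒳 h𝒴 _ _) Θ (K743.BC.isEquivOver_inv α β) h2
  -- replace the chart by a 2-isomorphic one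
  let κ : BasedFunctor.comp (BasedFunctor.comp (AlgSt.overMap g') (AlgSt.overMap b)) y ≅
      BasedFunctor.comp (BasedFunctor.comp (AlgSt.overMap g') (BasedFunctor.comp v (FibCat.fpSnd y z))) z :=
    K743.BC.whiskerLeftIso (AlgSt.overMap g') (K743.BC.whiskerRightIso i.symm y ≪≫
      K743.BC.whiskerLeftIso v (FibCat.fpIso y z))
  have h4 := isQuasiCompact_of_isEquivOver (isAlgStack_fp hT'a h𝒳 h𝒴 _ _)
    (isAlgStack_fp hT'a h𝒳 h𝒴 _ _) (K734.Fib.fpCongrL κ f) (K734.Fib.isEquivOver_fpCongrL κ f) h3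
  refine isQuasiCompact_fp_of_isSurjective h𝒳 h𝒴 hT' hT'a (BasedFunctor.comp (AlgSt.overMap g') (AlgSt.overMap b)) ?_
    y f h4
  rw [AlgSt.IsSurjective, K735.PtsSp.surjective_map_iff_surjective_ofChart]
  intro x
  obtain ⟨t, rfl⟩ := K735.PtsSp.exists_ofChart_id x
  obtain ⟨s, hs⟩ := hgs t
  refine ⟨s, ?_⟩
  rw [K735.PtsSp.ofChart_overMap, ← hs]
  exact K735.PtsSp.ofChart_overMap b (BasedFunctor.id _) _

/-- S12989. -/
theorem isQuasiCompactMor_of_fpFst_ofSp (h𝒳 : Alg 𝒳) (h𝒴 : Alg 𝒴) (h𝒵 : Alg 𝒵) (f : 𝒳 ⥤ᵇ 𝒴)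
    (w : 𝒵 ⥤ᵇ 𝒴)
    (hw₁ : AlgSt.RepByAlgSpWith (AlgSp.LocP @Flat) w)
    (hw₂ : AlgSt.RepByAlgSpWith (AlgSp.LocP @LocallyOfFinitePresentation) w)
    (hw₃ : AlgSt.RepByAlgSpWith AlgSp.IsSurjectiveMor w)
    (h : AlgSt.IsQuasiCompactMor Scheme.fppfPrecoverage (FibCat.fpFst w f)) :
    AlgSt.IsQuasiCompactMor Scheme.fppfPrecoverage f := by
  have := K735.Top.locP_respectsIso (S := S) @LocallyOfFinitePresentation
  have h1 : AlgSt.RepByAlgSpWith (AlgSp.LocP (@Flat ⊓ @LocallyOfFinitePresentation)) w := by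
    refine AlgSt_RepByAlgSpWith_mono ?_ (K735.Top.repByAlgSpWith_inf hw₁ hw₂)
    intro X Y g hg
    exact K597.locP_inf_iff.2 ⟨hg.1, hg.2⟩
  refine isQuasiCompactMor_of_fpFst h𝒳 h𝒴 h𝒵 f w
    (K735.Top.surjective_of_repByAlgSpWith h𝒴.isStack.1 h𝒵.isStack.1 hw₃) (fun T y => ?_) h
  have hT' := isAlgStack_overCat T
  have h2 : Alg (FibCat.fp y w) := isAlgStack_fp hT' h𝒵 h𝒴 y w
  exact K735.Top.isOpenMap_map K735.Top.isOpenMap_of_flat_lfp hT'.isStack.1 h2.isStack.1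
    (K735.Top.chartCont_of_isAlgStack h2) (K742.RepComp.repByAlgSpWith_fpFst y w h1)

end K742.QC
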