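import Groth.Agent.AlgSt.K742.RepComp
import Groth.Agent.AlgSp.K597.Affine
import Groth.Agent.AlgSp.K609.Loc

/-!
# Affine, integral and finite morphisms: composition and cancellation (helper742)
-/

set_option autoImplicit false
set_option backward.isDefEq.respectTransparency false
set_option backward.isDefEq.respectTransparency.types false

universe v₄ u₄ v₃ u₃ v₂ u₂ v u

open CategoryTheory CategoryTheory.Limits AlgebraicGeometry Opposite

namespace K742.Aff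

variable {S : Scheme.{u}} {F G : AlgSp.Sp S}

/-- A notion of the form "every base change to an affine scheme is an affine scheme with `P`" is `RepWith P`. -/
theorem repWith_of {P : MorphismProperty Scheme.{u}} [IsZariskiLocalAtTarget P] {f : F ⟶ G}
    (h : ∀ ⦃Z : Over S⦄, IsAffine Z.left → ∀ (g : (AlgSp.yon S).obj Z ⟶ G),
      ∃ (W : Over S) (i : W ⟶ Z) (fst : (AlgSp.yon S).obj W ⟶ F),
        IsPullback fst ((AlgSp.yon S).map i) f g ∧ IsAffine W.left ∧ P i.left) : AlgSp.RepWith P f := by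
  have h1 : AlgSp.IsAffineMor f := fun Z hZ g => by
    obtain ⟨W, i, fst, sq, hW, -⟩ := h hZ g
    exact ⟨W, i, fst, sq, hW⟩
  refine K609.Loc.repWith_of_affine P (K597.Affine.repWith_of_isAffineMor h1).1 fun T V g fst snd hT sq => ?_
  obtain ⟨W, i, fst', sq', hW, hi⟩ := h hT g
  let e : (AlgSp.yon S).obj V ≅ (AlgSp.yon S).obj W := IsPullback.isoIsPullback _ _ sq sq'
  have he : e.hom ≫ (AlgSp.yon S).map i = (AlgSp.yon S).map snd := IsPullback.isoIsPullback_hom_snd _ _ sq sq'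
  let e' : V ≅ W := (AlgSp.yon S).preimageIso e
  have he' : e'.hom ≫ i = snd := (AlgSp.yon S).map_injective (by rw [Functor.map_comp]; simpa [e'] using he)
  rw [← he', Over.comp_left]
  have : IsIso e'.hom.left := inferInstance
  exact (MorphismProperty.cancel_left_of_respectsIso P _ _).2 hi

theorem isIntegralMor_iff {f : F ⟶ G} : AlgSp.IsIntegralMor f ↔ AlgSp.RepWith @IsIntegralHom f := by
  refine ⟨fun h => repWith_of fun Z hZ g => h hZ g, fun h Z hZ g => ?_⟩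
  obtain ⟨W, i, fst, sq⟩ := h.1 g
  have h1 : IsIntegralHom i.left := h.2 g fst i sq
  exact ⟨W, i, fst, sq, isAffine_of_isAffineHom i.left, h1⟩

theorem isFiniteMor_iff {f : F ⟶ G} : AlgSp.IsFiniteMor f ↔ AlgSp.RepWith @IsFinite f := by
  refine ⟨fun h => repWith_of fun Z hZ g => h hZ g, fun h Z hZ g => ?_⟩
  obtain ⟨W, i, fst, sq⟩ := h.1 g
  have h1 : IsFinite i.left := h.2 g fst i sq
  exact ⟨W, i, fst, sq, isAffine_of_isAffineHom i.left, h1⟩

theorem isAffineMor_eq : (AlgSp.IsAffineMor (S := S)) = AlgSp.RepWith @IsAffineHom := by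
  ext F G f
  exact K597.Affine.isAffineMor_iff

theorem isIntegralMor_eq : (AlgSp.IsIntegralMor (S := S)) = AlgSp.RepWith @IsIntegralHom := by
  ext F G f
  exact isIntegralMor_iff

theorem isFiniteMor_eq : (AlgSp.IsFiniteMor (S := S)) = AlgSp.RepWith @IsFinite := by
  ext F G f
  exact isFiniteMor_iff

/-- A sheaf over a scheme through a representable morphism is a scheme. -/
theorem exists_iso_yon {P : MorphismProperty Scheme.{u}} {U : Over S} (a : F ⟶ (AlgSp.yon S).obj U)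
    (ha : AlgSp.RepWith P a) : ∃ W : Over S, Nonempty ((AlgSp.yon S).obj W ≅ F) := by
  obtain ⟨W, i, fst, sq⟩ := ha.1 (𝟙 _)
  have : IsIso fst := sq.isIso_fst_of_isIso
  exact ⟨W, ⟨asIso fst⟩⟩

variable {𝒳 : BasedCategory.{v₂, u₂} (Over S)} {𝒴 : BasedCategory.{v₃, u₃} (Over S)} {𝒵 : BasedCategory.{v₄, u₄} (Over S)}

/-- Composition for notions `RepWith P`. -/
theorem repByAlgSpWith_repWith_comp {P : MorphismProperty Scheme.{u}} [P.IsStableUnderBaseChange] [P.IsStableUnderComposition]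
    {f : 𝒳 ⥤ᵇ 𝒴} {g : 𝒴 ⥤ᵇ 𝒵} (hf : AlgSt.RepByAlgSpWith (AlgSp.RepWith P) f)
    (hg : AlgSt.RepByAlgSpWith (AlgSp.RepWith P) g) : AlgSt.RepByAlgSpWith (AlgSp.RepWith P) (BasedFunctor.comp f g) :=
  K742.RepComp.repByAlgSpWith_comp (fun _ _ a _ ha => exists_iso_yon a ha)
    (fun _ _ _ a b ha hb => (AlgSp.RepWith P).comp_mem a b ha hb) f g hf hg

theorem isAffineMor_comp {f : 𝒳 ⥤ᵇ 𝒴} {g : 𝒴 ⥤ᵇ 𝒵} (hf : AlgSt.RepByAlgSpWith AlgSp.IsAffineMor f)
    (hg : AlgSt.RepByAlgSpWith AlgSp.IsAffineMor g) : AlgSt.RepByAlgSpWith AlgSp.IsAffineMor (BasedFunctor.comp f g) := by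
  rw [isAffineMor_eq] at *
  exact repByAlgSpWith_repWith_comp hf hg

theorem isIntegralMor_comp {f : 𝒳 ⥤ᵇ 𝒴} {g : 𝒴 ⥤ᵇ 𝒵} (hf : AlgSt.RepByAlgSpWith AlgSp.IsIntegralMor f)
    (hg : AlgSt.RepByAlgSpWith AlgSp.IsIntegralMor g) :
    AlgSt.RepByAlgSpWith AlgSp.IsIntegralMor (BasedFunctor.comp f g) := by
  rw [isIntegralMor_eq] at *
  exact repByAlgSpWith_repWith_comp hf hg

theorem isFiniteMor_comp {f : 𝒳 ⥤ᵇ 𝒴} {g : 𝒴 ⥤ᵇ 𝒵} (hf : AlgSt.RepByAlgSpWith AlgSp.IsFiniteMor f)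
    (hg : AlgSt.RepByAlgSpWith AlgSp.IsFiniteMor g) :
    AlgSt.RepByAlgSpWith AlgSp.IsFiniteMor (BasedFunctor.comp f g) := by
  rw [isFiniteMor_eq] at *
  exact repByAlgSpWith_repWith_comp hf hg

/-- Cancellation for notions `RepWith P`. -/
theorem repByAlgSpWith_repWith_of_triangle {P : MorphismProperty Scheme.{u}} [P.IsStableUnderBaseChange]
    [P.IsStableUnderComposition] {𝒳 𝒴 𝒵 : AlgSt.Cat S} (f : 𝒳 ⥤ᵇ 𝒴) (a : 𝒳 ⥤ᵇ 𝒵) (b : 𝒴 ⥤ᵇ 𝒵)
    (e : BasedFunctor.comp f b ≅ a) (ha : AlgSt.RepByAlgSpWith (AlgSp.RepWith P) a)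
    (hb : AlgSt.RepByAlgSpWith (AlgSp.RepWith P) (FibCat.diag b)) : AlgSt.RepByAlgSpWith (AlgSp.RepWith P) f := by
  have h1 := K743.DiagBC.repByAlgSpWith_graph a b f e.symm hb
  have h2 := K742.RepComp.repByAlgSpWith_fpSnd a b ha
  exact repByAlgSpWith_repWith_comp h1 h2

theorem isAffineMor_of_triangle {𝒳 𝒴 𝒵 : AlgSt.Cat S} (f : 𝒳 ⥤ᵇ 𝒴) (a : 𝒳 ⥤ᵇ 𝒵) (b : 𝒴 ⥤ᵇ 𝒵)
    (e : BasedFunctor.comp f b ≅ a) (ha : AlgSt.RepByAlgSpWith AlgSp.IsAffineMor a)
    (hb : AlgSt.RepByAlgSpWith AlgSp.IsAffineMor (FibCat.diag b)) : AlgSt.RepByAlgSpWith AlgSp.IsAffineMor f := by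
  rw [isAffineMor_eq] at *
  exact repByAlgSpWith_repWith_of_triangle f a b e ha hb

end K742.Aff
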