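import Groth.Agent.AlgSt.K742.EvQ3
import Groth.Agent.S0116

/-!
# Locally Noetherian algebraic stacks: one chart suffices; morphisms locally of finite type (helper742)
-/

set_option autoImplicit false
set_option backward.isDefEq.respectTransparency false
set_option backward.isDefEq.respectTransparency.types false

universe v₄ u₄ v u

open CategoryTheory CategoryTheory.Limits AlgebraicGeometry Opposite
open K735.Fib K735.Fp K735.Rep K742.Sq K742.EvQ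

namespace K742.LN

variable {S : Scheme.{u}} {𝒳 𝒴 𝒵 : AlgSt.Cat S} {P Q R : MorphismProperty Scheme.{u}}

theorem hasAtlas_overCat (U : Over S) : AlgSt.HasAtlas (AlgSp.LocP @Smooth) (FibCat.overCat U) :=
  (K742.QC.isAlgStack_overCat U).atlas

/-- Common refinement of a smooth surjective and a smooth chart. -/
theorem exists_common (h𝒳 : FibCat.IsFibGrpd 𝒳.p) {U₀ U : Over S} (x₀ : FibCat.overCat U₀ ⥤ᵇ 𝒳)
    (x : FibCat.overCat U ⥤ᵇ 𝒳) (hx₀ : AlgSt.RepByAlgSpWith (AlgSp.LocP @Smooth) x₀)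
    (hx₀s : Function.Surjective (AlgSt.Points.ofChart x₀)) (hx : AlgSt.RepByAlgSpWith (AlgSp.LocP @Smooth) x) :
    ∃ (W : Over S) (a : W ⟶ U₀) (b : W ⟶ U), Smooth a.left ∧ Smooth b.left ∧ Surjective b.left ∧
      Nonempty (BasedFunctor.comp (AlgSt.overMap a) x₀ ≅ BasedFunctor.comp (AlgSt.overMap b) x) := by
  have h1 : FibCat.IsFibGrpd (FibCat.fp x₀ x).p := isFibGrpd_fp (isFibGrpd_overCat U₀) (isFibGrpd_overCat U) h𝒳 _ _
  obtain ⟨W, w, hw, hws⟩ := K742.Chain.exists_atlas_fp (isFibGrpd_overCat U₀) h𝒳 (hasAtlas_overCat U₀) x₀ x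
    (repByAlgSp1_of_with hx)
  obtain ⟨a, ⟨i⟩⟩ := K735.Top.exists_iso_overMap (BasedFunctor.comp w (FibCat.fpFst x₀ x))
  obtain ⟨b, ⟨j⟩⟩ := K735.Top.exists_iso_overMap (BasedFunctor.comp w (FibCat.fpSnd x₀ x))
  refine ⟨W, a, b, (nice_smooth.overMap_iff a).1 (repByAlgSpWith_of_iso _ i ?_),
    (nice_smooth.overMap_iff b).1 (repByAlgSpWith_of_iso _ j ?_), ⟨fun u => ?_⟩,
    ⟨K743.BC.whiskerRightIso i.symm x₀ ≪≫ K743.BC.whiskerLeftIso w (FibCat.fpIso x₀ x) ≪≫ K743.BC.whiskerRightIso j x⟩⟩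
  · exact K742.SmComp.smooth_comp (isFibGrpd_overCat W) h1 _ _ hw (K742.RepComp.repByAlgSpWith_fpFst x₀ x hx)
  · exact K742.SmComp.smooth_comp (isFibGrpd_overCat W) h1 _ _ hw (K742.RepComp.repByAlgSpWith_fpSnd x₀ x hx₀)
  · obtain ⟨p, hp⟩ := hx₀s (AlgSt.Points.ofChart x u)
    obtain ⟨ω, hω1, hω2⟩ := K735.Pts.exists_fp (isFibGrpd_overCat U) (isFibGrpd_overCat U₀) h𝒳 x₀ x
      (AlgSt.Points.ofChart (BasedFunctor.id _) p) (AlgSt.Points.ofChart (BasedFunctor.id _) u) hp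
    obtain ⟨τ, hτ⟩ := (K735.PtsSp.surjective_map_iff_surjective_ofChart w).1 hws ω
    refine ⟨τ, (K735.PtsSp.ofChart_id_bijective U).1 ?_⟩
    rw [← hω2, ← hτ, ← K735.PtsSp.ofChart_overMap]
    exact (K735.PtsSp.ofChart_congr j τ).symm

/-- A property of schemes going up along smooth and down along smooth surjective morphisms is read on one chart. -/
theorem smoothLocally_of_chart {Q : Scheme.{u} → Prop} (hup : ∀ ⦃A B : Scheme.{u}⦄ (f : A ⟶ B), Smooth f → Q B → Q A)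
    (hdn : ∀ ⦃A B : Scheme.{u}⦄ (f : A ⟶ B), Smooth f → Surjective f → Q A → Q B) (h𝒳 : FibCat.IsFibGrpd 𝒳.p)
    {U₀ : Over S} (x₀ : FibCat.overCat U₀ ⥤ᵇ 𝒳) (hx₀ : AlgSt.RepByAlgSpWith (AlgSp.LocP @Smooth) x₀)
    (hx₀s : Function.Surjective (AlgSt.Points.ofChart x₀)) (hQ : Q U₀.left) : AlgSt.SmoothLocally Q 𝒳 := by
  intro U x hx
  obtain ⟨W, a, b, ha, hb, hbs, -⟩ := exists_common h𝒳 x₀ x hx₀ hx₀s hx
  exact hdn b.left hb hbs (hup a.left ha hQ)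

theorem smoothLocally_LN_of_chart (h𝒳 : FibCat.IsFibGrpd 𝒳.p)
    {U₀ : Over S} (x₀ : FibCat.overCat U₀ ⥤ᵇ 𝒳) (hx₀ : AlgSt.RepByAlgSpWith (AlgSp.LocP @Smooth) x₀)
    (hx₀s : Function.Surjective (AlgSt.Points.ofChart x₀)) (hQ : IsLocallyNoetherian U₀.left) :
    AlgSt.SmoothLocally (fun T ↦ IsLocallyNoetherian T) 𝒳 :=
  smoothLocally_of_chart (fun A B f hf hB => LocallyOfFiniteType.isLocallyNoetherian f)
    (fun A B f hf hs hA => Groth.Agent.S0116.result f) h𝒳 x₀ hx₀ hx₀s hQ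

/-- S12998. -/
theorem smoothLocally_LN_of_lft (h𝒳 : FibCat.IsFibGrpd 𝒳.p) (f : 𝒳 ⥤ᵇ 𝒴)
    (hf : AlgSt.LocQ (AlgSp.LocP @LocallyOfFiniteType) f)
    (h : AlgSt.SmoothLocally (fun T ↦ IsLocallyNoetherian T) 𝒴) : AlgSt.SmoothLocally (fun T ↦ IsLocallyNoetherian T) 𝒳 := by
  obtain ⟨U, V, x, y, h', α, hx, hxs, hy, hh⟩ := hf
  have h1 : IsLocallyNoetherian V.left := h V y hy
  have h2 : LocallyOfFiniteType h'.left := (nice_lft.yon_iff h').1 hh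
  exact smoothLocally_LN_of_chart h𝒳 x hx (points_of_surj h𝒳 hxs)
    (LocallyOfFiniteType.isLocallyNoetherian h'.left)

/-- S12999. -/
theorem locQ_lfp_of_lft (f : 𝒳 ⥤ᵇ 𝒴)
    (h : AlgSt.SmoothLocally (fun T ↦ IsLocallyNoetherian T) 𝒴)
    (hf : AlgSt.LocQ (AlgSp.LocP @LocallyOfFiniteType) f) :
    AlgSt.LocQ (AlgSp.LocP @LocallyOfFinitePresentation) f := by
  obtain ⟨U, V, x, y, h', α, hx, hxs, hy, hh⟩ := hf
  have h1 : IsLocallyNoetherian V.left := h V y hy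
  have h2 : LocallyOfFiniteType h'.left := (nice_lft.yon_iff h').1 hh
  exact ⟨U, V, x, y, h', α, hx, hxs, hy, (nice_lfp.yon_iff h').2 inferInstance⟩

/-- A morphism representable by `P`-morphisms of schemes is `LocP Q`, `P` stable under etale base change etc. -/
theorem rep_locP_of_repWith {P Q : MorphismProperty Scheme.{u}} (hQ : NiceP Q) (hPQ : ∀ ⦃A B : Scheme.{u}⦄ (f : A ⟶ B), P f → Q f)
    {f : 𝒳 ⥤ᵇ 𝒴} (hf : AlgSt.RepByAlgSpWith (AlgSp.RepWith P) f) : AlgSt.RepByAlgSpWith (AlgSp.LocP Q) f :=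
  AlgSt_RepByAlgSpWith_mono (fun _ _ _ h => K597.locP_of_repWith hQ.et.precomp
    (K609.Points.repWith_mono (P := P) (Q := Q) (fun k hk => hPQ k hk) h)) hf

/-- S12996. -/
theorem locQ_lft_of_isImm (h𝒳 : AlgSt.IsAlgStack Scheme.fppfPrecoverage 𝒳) (h𝒴 : AlgSt.IsAlgStack Scheme.fppfPrecoverage 𝒴)
    (f : 𝒳 ⥤ᵇ 𝒴) (hf : AlgSt.IsImm f) : AlgSt.LocQ (AlgSp.LocP @LocallyOfFiniteType) f :=
  locQ_of_rep nice_lft h𝒳.isStack.1 h𝒴.isStack.1 h𝒳.atlas h𝒴.atlas f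
    (rep_locP_of_repWith (P := @IsImmersion) nice_lft (fun _ _ k hk => by have : IsImmersion k := hk; infer_instance) hf)

/-- S12997. -/
theorem locQ_lfp_of_isOpenImm (h𝒳 : AlgSt.IsAlgStack Scheme.fppfPrecoverage 𝒳)
    (h𝒴 : AlgSt.IsAlgStack Scheme.fppfPrecoverage 𝒴)
    (f : 𝒳 ⥤ᵇ 𝒴) (hf : AlgSt.IsOpenImm f) : AlgSt.LocQ (AlgSp.LocP @LocallyOfFinitePresentation) f :=
  locQ_of_rep nice_lfp h𝒳.isStack.1 h𝒴.isStack.1 h𝒳.atlas h𝒴.atlas f
    (rep_locP_of_repWith (P := @IsOpenImmersion) nice_lfp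
      (fun _ _ k hk => by have : IsOpenImmersion k := hk; infer_instance) hf)

end K742.LN
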