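import Groth.Agent.AlgSt.K742.EvQ2
import Groth.Agent.AlgSt.K742.QC2
import Groth.Agent.AlgSt.K734.FpAlg
import Groth.Agent.Ega43.FPOfComp

/-!
# Base change of nice properties read on charts; diagonals; descent of quasi-compactness (helper742)
-/

set_option autoImplicit false
set_option backward.isDefEq.respectTransparency false
set_option backward.isDefEq.respectTransparency.types false

universe v₄ u₄ v u

open CategoryTheory CategoryTheory.Limits AlgebraicGeometry Opposite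
open K735.Fib K735.Fp K735.Rep K742.Sq

namespace K742.EvQ

variable {S : Scheme.{u}} {𝒳 𝒴 𝒵 : AlgSt.Cat S} {P Q R : MorphismProperty Scheme.{u}}

local notation "Alg" => AlgSt.IsAlgStack Scheme.fppfPrecoverage

/-- Base change (S13039 for nice properties). -/
theorem locQ_fpFst (hP : NiceP P) (h𝒳 : FibCat.IsFibGrpd 𝒳.p) (h𝒴 : FibCat.IsFibGrpd 𝒴.p) (h𝒵 : FibCat.IsFibGrpd 𝒵.p)
    (hc : AlgSt.HasAtlas (AlgSp.LocP @Smooth) 𝒵)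
    (f : 𝒳 ⥤ᵇ 𝒴) (g : 𝒵 ⥤ᵇ 𝒴) (hf : AlgSt.LocQ (AlgSp.LocP P) f) : AlgSt.LocQ (AlgSp.LocP P) (FibCat.fpFst g f) := by
  obtain ⟨U₀, x₀, hx₀, hx₀s, h₀⟩ := exists_comp_of_locQ hP hf
  have hU := isFibGrpd_overCat (C := Over S) U₀
  have h1 : FibCat.IsFibGrpd (FibCat.fp g (BasedFunctor.comp x₀ f)).p := isFibGrpd_fp h𝒵 hU h𝒴 _ _
  have h2 : FibCat.IsFibGrpd (FibCat.fp g f).p := isFibGrpd_fp h𝒵 h𝒳 h𝒴 _ _
  obtain ⟨T, w, hw, hws⟩ := K742.Chain.exists_atlas_fp h𝒵 h𝒴 hc g (BasedFunctor.comp x₀ f) (repByAlgSp1_of_with h₀)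
  have hws' : AlgSt.RepByAlgSpWith AlgSp.IsSurjectiveMor w :=
    (K735.Top.repByAlgSpWith_surjective_iff h1 (isFibGrpd_overCat T) (repByAlgSp1_of_with hw)).1 hws
  refine locQ_of_chart hP h2 h𝒵 hc (FibCat.fpFst g f) (BasedFunctor.comp w (K734.Fib.fpPreR g x₀ f))
    (K742.SmComp.smooth_comp (isFibGrpd_overCat T) h1 _ _ hw (K734.Rep.repByAlgSpWith_fpPreR _ _ hx₀))
    (K734.Rep.nice_surj.repByAlgSpWith_comp (isFibGrpd_overCat T) h1 hws' (K734.Rep.repByAlgSpWith_fpPreR _ _ hx₀s)) ?_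
  exact hP.comp_rep (isFibGrpd_overCat T) h1 (hP.of_smooth hw)
    (K742.RepComp.repByAlgSpWith_fpFst g (BasedFunctor.comp x₀ f) h₀)

theorem locQ_iso {Q : MorphismProperty (AlgSp.Sp S)} {f g : 𝒳 ⥤ᵇ 𝒴} (e : f ≅ g) (h : AlgSt.LocQ Q f) : AlgSt.LocQ Q g := by
  obtain ⟨U, V, x, y, h, α, hx⟩ := h
  exact ⟨U, V, x, y, h, K743.BC.whiskerLeftIso x e.symm ≪≫ α, hx⟩

/-- The identity has every nice property. -/
theorem locQ_id (hP : NiceP P) (ha : AlgSt.HasAtlas (AlgSp.LocP @Smooth) 𝒳) :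
    AlgSt.LocQ (AlgSp.LocP P) (BasedFunctor.id 𝒳) := by
  obtain ⟨U, x, hx, hxs⟩ := ha
  obtain ⟨h, ⟨i⟩⟩ := K735.Top.exists_iso_overMap (BasedFunctor.id (FibCat.overCat U))
  have h1 : P h.left := (hP.overMap_iff h).1 (repByAlgSpWith_of_iso _ i
    (hP.of_smooth (K742.Chain.smooth_of_isEquivOver isEquivOver_id)))
  exact ⟨U, U, x, x, h, K743.BC.whiskerRightIso i x, hx, hxs, hx, (hP.yon_iff h).2 h1⟩

/-- S13006. -/
theorem locQ_lfp_diag (h𝒳 : Alg 𝒳) (h𝒴 : Alg 𝒴) (f : 𝒳 ⥤ᵇ 𝒴) (hf : AlgSt.LocQ (AlgSp.LocP @LocallyOfFiniteType) f) :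
    AlgSt.LocQ (AlgSp.LocP @LocallyOfFinitePresentation) (FibCat.diag f) := by
  have h1 : Alg (FibCat.fp f f) := K742.QC.isAlgStack_fp h𝒳 h𝒳 h𝒴 f f
  refine locQ_of_comp nice_lft nice_lfp nice_lfp
    (fun _ _ _ a b hb hc => by
      have : LocallyOfFiniteType b := hb
      have : LocallyOfFinitePresentation (a ≫ b) := hc
      exact Groth.Agent.Ega43.FPOfComp.locallyOfFinitePresentation_of_comp a b)
    h𝒳.isStack.1 h1.isStack.1 h𝒳.isStack.1 h𝒳.atlas h1.atlas h𝒳.atlas (FibCat.diag f) (FibCat.fpFst f f)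
    (locQ_fpFst nice_lft h𝒳.isStack.1 h𝒴.isStack.1 h𝒳.isStack.1 h𝒳.atlas f f hf) ?_
  exact locQ_id nice_lfp h𝒳.atlas

/-- S13009. -/
theorem isQuasiCompactMor_of_fppf (h𝒳 : Alg 𝒳) (h𝒴 : Alg 𝒴) (h𝒵 : Alg 𝒵) (f : 𝒳 ⥤ᵇ 𝒴) (z : 𝒵 ⥤ᵇ 𝒴)
    (hz₁ : AlgSt.LocQ (AlgSp.LocP @Flat) z) (hz₂ : AlgSt.LocQ (AlgSp.LocP @LocallyOfFinitePresentation) z)
    (hz₃ : AlgSt.IsSurjective z) (h : AlgSt.IsQuasiCompactMor Scheme.fppfPrecoverage (FibCat.fpFst z f)) :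
    AlgSt.IsQuasiCompactMor Scheme.fppfPrecoverage f := by
  refine K742.QC.isQuasiCompactMor_of_fpFst h𝒳 h𝒴 h𝒵 f z hz₃ (fun T y => ?_) h
  have hT := K742.QC.isAlgStack_overCat T
  have h1 : Alg (FibCat.fp y z) := K742.QC.isAlgStack_fp hT h𝒵 h𝒴 y z
  exact isOpenMor_of_flat_lfp h1.isStack.1 hT.isStack.1 h1.atlas hT.atlas (FibCat.fpFst y z)
    (locQ_fpFst nice_flat h𝒵.isStack.1 h𝒴.isStack.1 hT.isStack.1 hT.atlas z y hz₁)
    (locQ_fpFst nice_lfp h𝒵.isStack.1 h𝒴.isStack.1 hT.isStack.1 hT.atlas z y hz₂)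

end K742.EvQ
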