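import Groth.Agent.AlgSt.K742.Nice

/-!
# A nice property read on one square of charts holds on all good squares (helper742)

For `P` nice (flat, locally of finite type, locally of finite presentation, smooth):
* `goodSq_of_locQ`: `LocQ (LocP P) f` implies `P` for the scheme morphism of every good square;
* `locQ_of_rep`: `RepByAlgSpWith (LocP P) f` implies `LocQ (LocP P) f`;
* `locQ_comp`, `locQ_fpFst`: composition and base change;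
* `locQ_of_comp_surjective`, `locQ_of_comp`, `locQ_inf`: descent, cancellation, conjunction.
-/

set_option autoImplicit false
set_option backward.isDefEq.respectTransparency false
set_option backward.isDefEq.respectTransparency.types false

universe v₄ u₄ v u

open CategoryTheory CategoryTheory.Limits AlgebraicGeometry Opposite
open K735.Fib K735.Fp K735.Rep K742.Sq

namespace K742.EvQ

variable {S : Scheme.{u}} {𝒳 𝒴 𝒵 : AlgSt.Cat S} {P Q R : MorphismProperty Scheme.{u}}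

theorem surj_of_points (h𝒳 : FibCat.IsFibGrpd 𝒳.p) {U : Over S} {x : FibCat.overCat U ⥤ᵇ 𝒳}
    (hx : AlgSt.RepByAlgSp1 x) (h : Function.Surjective (AlgSt.Points.ofChart x)) :
    AlgSt.RepByAlgSpWith AlgSp.IsSurjectiveMor x :=
  (K735.Top.repByAlgSpWith_surjective_iff h𝒳 (isFibGrpd_overCat U) hx).1
    ((K735.PtsSp.surjective_map_iff_surjective_ofChart x).2 h)

theorem points_of_surj (h𝒳 : FibCat.IsFibGrpd 𝒳.p) {U : Over S} {x : FibCat.overCat U ⥤ᵇ 𝒳}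
    (hx : AlgSt.RepByAlgSpWith AlgSp.IsSurjectiveMor x) : Function.Surjective (AlgSt.Points.ofChart x) :=
  (K735.PtsSp.surjective_map_iff_surjective_ofChart x).1
    (K735.Top.surjective_of_repByAlgSpWith h𝒳 (isFibGrpd_overCat U) hx)

/-- The source chart of a `LocQ` square composed with `f` has `P` over the target. -/
theorem exists_comp_of_locQ (hP : NiceP P) {f : 𝒳 ⥤ᵇ 𝒴} (h : AlgSt.LocQ (AlgSp.LocP P) f) :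
    ∃ (U : Over S) (x : FibCat.overCat U ⥤ᵇ 𝒳), AlgSt.RepByAlgSpWith (AlgSp.LocP @Smooth) x ∧
      AlgSt.RepByAlgSpWith AlgSp.IsSurjectiveMor x ∧ AlgSt.RepByAlgSpWith (AlgSp.LocP P) (BasedFunctor.comp x f) := by
  obtain ⟨U, V, x, y, h, α, hx, hxs, hy, hh⟩ := h
  refine ⟨U, x, hx, hxs, repByAlgSpWith_of_iso _ α.symm ?_⟩
  exact hP.comp_rep (isFibGrpd_overCat U) (isFibGrpd_overCat V) ((hP.overMap_iff h).2 ((hP.yon_iff h).1 hh))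
    (hP.of_smooth hy)

/-- The projection `(U ×_𝒳 (𝒳 ×_𝒴 V)) ⟶ V` has `P` when `U ⟶ 𝒳 ⟶ 𝒴` has `P`. -/
theorem rep_fpFst_snd {U V : Over S} (x : FibCat.overCat U ⥤ᵇ 𝒳) (f : 𝒳 ⥤ᵇ 𝒴) (y : FibCat.overCat V ⥤ᵇ 𝒴)
    {Q : MorphismProperty (AlgSp.Sp S)} (h : AlgSt.RepByAlgSpWith Q (BasedFunctor.comp x f)) :
    AlgSt.RepByAlgSpWith Q (BasedFunctor.comp (FibCat.fpFst (FibCat.fpFst f y) x) (FibCat.fpSnd f y)) := by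
  have h1 : AlgSt.RepByAlgSpWith Q (FibCat.fpSnd (BasedFunctor.comp x f) y) :=
    K742.RepComp.repByAlgSpWith_fpSnd (BasedFunctor.comp x f) y h
  refine (repByAlgSpWith_iff_of_sq Q (BasedFunctor.comp (FibCat.fpFst (FibCat.fpFst f y) x) (FibCat.fpSnd f y))
    (FibCat.fpSnd (BasedFunctor.comp x f) y)
    (BasedFunctor.comp (K734.Fib.fpPaste x f y) (K734.Fib.fpSwap x (FibCat.fpFst f y))) (BasedFunctor.id _)
    (IsEquivOver.comp (K734.Fib.isEquivOver_fpPaste x f y) (K734.Fib.isEquivOver_fpSwap x (FibCat.fpFst f y)))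
    isEquivOver_id (Iso.refl _)).2 h1

/-- Every good square has `P`, from a smooth surjective chart of the source which has `P` over the target. -/
theorem goodSq_of_chart (hP : NiceP P) (h𝒳 : FibCat.IsFibGrpd 𝒳.p) (h𝒴 : FibCat.IsFibGrpd 𝒴.p)
    (f : 𝒳 ⥤ᵇ 𝒴) {U₀ : Over S} (x₀ : FibCat.overCat U₀ ⥤ᵇ 𝒳) (hx₀ : AlgSt.RepByAlgSpWith (AlgSp.LocP @Smooth) x₀)
    (hx₀s : AlgSt.RepByAlgSpWith AlgSp.IsSurjectiveMor x₀)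
    (hc : AlgSt.RepByAlgSpWith (AlgSp.LocP P) (BasedFunctor.comp x₀ f)) {U V : Over S}
    (x : FibCat.overCat U ⥤ᵇ 𝒳) (y : FibCat.overCat V ⥤ᵇ 𝒴) (hy : AlgSt.RepByAlgSp1 y) (h : U ⟶ V)
    (hg : GoodSq f x y h) : P h.left := by
  obtain ⟨α, hα⟩ := hg
  let q := FibCat.fpFst f y
  let L := FibCat.fpLift x (AlgSt.overMap h) α
  have hL : AlgSt.RepByAlgSpWith (AlgSp.LocP @Smooth) L := hα
  let s₀ := FibCat.fpFst q x₀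
  have ha : AlgSt.HasAtlas (AlgSp.LocP @Smooth) 𝒳 := ⟨U₀, x₀, hx₀, hx₀s⟩
  have hQg : FibCat.IsFibGrpd (FibCat.fp f y).p := isFibGrpd_fp h𝒳 (isFibGrpd_overCat V) h𝒴 f y
  have hQ0g : FibCat.IsFibGrpd (FibCat.fp q x₀).p := isFibGrpd_fp hQg (isFibGrpd_overCat U₀) h𝒳 q x₀
  have hWg : FibCat.IsFibGrpd (FibCat.fp s₀ L).p := isFibGrpd_fp hQ0g (isFibGrpd_overCat U) hQg s₀ L
  -- atlases
  obtain ⟨T₁, w₁, hw₁, hw₁s⟩ := K742.Chain.exists_atlas_fp h𝒳 h𝒴 ha f y hy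
  have ha₁ : AlgSt.HasAtlas (AlgSp.LocP @Smooth) (FibCat.fp f y) := ⟨T₁, w₁, hw₁,
    (K735.Top.repByAlgSpWith_surjective_iff hQg (isFibGrpd_overCat T₁) (repByAlgSp1_of_with hw₁)).1 hw₁s⟩
  obtain ⟨T₂, w₂, hw₂, hw₂s⟩ := K742.Chain.exists_atlas_fp hQg h𝒳 ha₁ q x₀ (repByAlgSp1_of_with hx₀)
  have ha₂ : AlgSt.HasAtlas (AlgSp.LocP @Smooth) (FibCat.fp q x₀) := ⟨T₂, w₂, hw₂,
    (K735.Top.repByAlgSpWith_surjective_iff hQ0g (isFibGrpd_overCat T₂) (repByAlgSp1_of_with hw₂)).1 hw₂s⟩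
  obtain ⟨T, w, hw, hws⟩ := K742.Chain.exists_atlas_fp hQ0g hQg ha₂ s₀ L (repByAlgSp1_of_with hL)
  -- the map to `U`
  have hs₀ : AlgSt.RepByAlgSpWith (AlgSp.LocP @Smooth) s₀ := K742.RepComp.repByAlgSpWith_fpFst q x₀ hx₀
  have hs₀s : AlgSt.RepByAlgSpWith AlgSp.IsSurjectiveMor s₀ := K742.RepComp.repByAlgSpWith_fpFst q x₀ hx₀s
  obtain ⟨t, ⟨i⟩⟩ := K735.Top.exists_iso_overMap (BasedFunctor.comp w (FibCat.fpSnd s₀ L))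
  have ht : Smooth t.left := (nice_smooth.overMap_iff t).1 (repByAlgSpWith_of_iso _ i
    (K742.SmComp.smooth_comp (isFibGrpd_overCat T) hWg _ _ hw (K742.RepComp.repByAlgSpWith_fpSnd s₀ L hs₀)))
  have hts : Surjective t.left := by
    refine ⟨fun u => ?_⟩
    have e1 := K735.Top.surjective_of_repByAlgSpWith (isFibGrpd_overCat U) hWg
      (K742.RepComp.repByAlgSpWith_fpSnd s₀ L hs₀s)
    obtain ⟨ω, hω⟩ := e1 (AlgSt.Points.ofChart (BasedFunctor.id _) u)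
    obtain ⟨τ, hτ⟩ := (K735.PtsSp.surjective_map_iff_surjective_ofChart w).1 hws ω
    refine ⟨τ, (K735.PtsSp.ofChart_id_bijective U).1 ?_⟩
    rw [← hω, ← hτ, ← K735.PtsSp.ofChart_overMap]
    exact (K735.PtsSp.ofChart_congr i τ).symm
  -- the map to `V`
  have h1 : AlgSt.RepByAlgSpWith (AlgSp.LocP P) (BasedFunctor.comp w (BasedFunctor.comp (FibCat.fpFst s₀ L)
      (BasedFunctor.comp s₀ (FibCat.fpSnd f y)))) :=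
    hP.comp_rep (isFibGrpd_overCat T) hWg (hP.of_smooth hw)
      (hP.comp_rep hWg hQ0g (hP.of_smooth (K742.RepComp.repByAlgSpWith_fpFst s₀ L hL)) (rep_fpFst_snd x₀ f y hc))
  let κ : BasedFunctor.comp w (BasedFunctor.comp (FibCat.fpFst s₀ L) (BasedFunctor.comp s₀ (FibCat.fpSnd f y))) ≅
      AlgSt.overMap (t ≫ h) :=
    K743.BC.whiskerLeftIso w (K743.BC.whiskerRightIso (FibCat.fpIso s₀ L) (FibCat.fpSnd f y)) ≪≫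
      K743.BC.whiskerRightIso i (AlgSt.overMap h) ≪≫ overMapComp t h
  exact hP.desc t.left h.left ht hts ((hP.overMap_iff (t ≫ h)).1 (repByAlgSpWith_of_iso _ κ h1))

/-- **Every good square has `P`.** -/
theorem goodSq_of_locQ (hP : NiceP P) (h𝒳 : FibCat.IsFibGrpd 𝒳.p) (h𝒴 : FibCat.IsFibGrpd 𝒴.p)
    (f : 𝒳 ⥤ᵇ 𝒴) (hf : AlgSt.LocQ (AlgSp.LocP P) f) {U V : Over S}
    (x : FibCat.overCat U ⥤ᵇ 𝒳) (y : FibCat.overCat V ⥤ᵇ 𝒴) (hy : AlgSt.RepByAlgSp1 y) (h : U ⟶ V)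
    (hg : GoodSq f x y h) : P h.left := by
  obtain ⟨U₀, x₀, hx₀, hx₀s, hc⟩ := exists_comp_of_locQ hP hf
  exact goodSq_of_chart hP h𝒳 h𝒴 f x₀ hx₀ hx₀s hc x y hy h hg

/-- A nice property with a square of charts on which it can be read. -/
theorem locQ_of_goodSq (hP : NiceP P) (h𝒳 : FibCat.IsFibGrpd 𝒳.p) {f : 𝒳 ⥤ᵇ 𝒴} {U V : Over S}
    {x : FibCat.overCat U ⥤ᵇ 𝒳} {y : FibCat.overCat V ⥤ᵇ 𝒴} {h : U ⟶ V} (hg : GoodSq f x y h)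
    (hx : AlgSt.RepByAlgSpWith (AlgSp.LocP @Smooth) x) (hxs : Function.Surjective (AlgSt.Points.ofChart x))
    (hy : AlgSt.RepByAlgSpWith (AlgSp.LocP @Smooth) y) (hh : P h.left) : AlgSt.LocQ (AlgSp.LocP P) f := by
  obtain ⟨α, -⟩ := hg
  exact ⟨U, V, x, y, h, α, hx, surj_of_points h𝒳 (repByAlgSp1_of_with hx) hxs, hy, (hP.yon_iff h).2 hh⟩

/-- A good square over an atlas of the target. -/
theorem exists_goodSq_atlas (h𝒳 : FibCat.IsFibGrpd 𝒳.p) (h𝒴 : FibCat.IsFibGrpd 𝒴.p)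
    (ha : AlgSt.HasAtlas (AlgSp.LocP @Smooth) 𝒳) (hb : AlgSt.HasAtlas (AlgSp.LocP @Smooth) 𝒴) (f : 𝒳 ⥤ᵇ 𝒴) :
    ∃ (U V : Over S) (x : FibCat.overCat U ⥤ᵇ 𝒳) (y : FibCat.overCat V ⥤ᵇ 𝒴) (h : U ⟶ V), GoodSq f x y h ∧
      AlgSt.RepByAlgSpWith (AlgSp.LocP @Smooth) x ∧ Function.Surjective (AlgSt.Points.ofChart x) ∧
      AlgSt.RepByAlgSpWith (AlgSp.LocP @Smooth) y ∧ Function.Surjective (AlgSt.Points.ofChart y) ∧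
      (AlgSt.IsSurjective f → Surjective h.left) := by
  obtain ⟨V, y, hy, hys⟩ := hb
  obtain ⟨U, x, a, ha, hx, hxs⟩ := K742.Chain.exists_goodSq h𝒳 h𝒴 ha f y hy
  have hys' := points_of_surj h𝒴 hys
  refine ⟨U, V, x, y, a, ha, hx, fun p => ?_, hy, hys', fun hf => ⟨fun q => ?_⟩⟩
  · obtain ⟨q, hq⟩ := hys' (AlgSt.Points.map f p)
    obtain ⟨t, ht, -⟩ := hxs p q hq.symm
    exact ⟨t, ht⟩
  · obtain ⟨p, hp⟩ := hf (AlgSt.Points.ofChart y q)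
    obtain ⟨t, -, ht⟩ := hxs p q hp
    exact ⟨t, ht⟩

/-- S12773. -/
theorem exists_chart_over (h𝒳 : FibCat.IsFibGrpd 𝒳.p) (h𝒴 : FibCat.IsFibGrpd 𝒴.p)
    (ha : AlgSt.HasAtlas (AlgSp.LocP @Smooth) 𝒳) (f : 𝒳 ⥤ᵇ 𝒴) (V : Over S) (y : FibCat.overCat V ⥤ᵇ 𝒴)
    (hy : AlgSt.RepByAlgSpWith (AlgSp.LocP @Smooth) y) (hys : AlgSt.RepByAlgSpWith AlgSp.IsSurjectiveMor y) :
    ∃ (U : Over S) (a : U ⟶ V) (x : FibCat.overCat U ⥤ᵇ 𝒳),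
      AlgSt.RepByAlgSpWith (AlgSp.LocP @Smooth) x ∧ AlgSt.RepByAlgSpWith AlgSp.IsSurjectiveMor x ∧
        Nonempty (BasedFunctor.comp x f ≅ BasedFunctor.comp (AlgSt.overMap a) y) := by
  obtain ⟨U, x, a, ⟨α, -⟩, hx, hxs⟩ := K742.Chain.exists_goodSq h𝒳 h𝒴 ha f y hy
  refine ⟨U, a, x, hx, surj_of_points h𝒳 (repByAlgSp1_of_with hx) fun p => ?_, ⟨α⟩⟩
  obtain ⟨q, hq⟩ := points_of_surj h𝒴 hys (AlgSt.Points.map f p)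
  obtain ⟨t, ht, -⟩ := hxs p q hq.symm
  exact ⟨t, ht⟩

/-- `LocQ` from one smooth surjective chart of the source. -/
theorem locQ_of_chart (hP : NiceP P) (h𝒳 : FibCat.IsFibGrpd 𝒳.p) (h𝒴 : FibCat.IsFibGrpd 𝒴.p)
    (hb : AlgSt.HasAtlas (AlgSp.LocP @Smooth) 𝒴)
    (f : 𝒳 ⥤ᵇ 𝒴) {U₀ : Over S} (x₀ : FibCat.overCat U₀ ⥤ᵇ 𝒳) (hx₀ : AlgSt.RepByAlgSpWith (AlgSp.LocP @Smooth) x₀)
    (hx₀s : AlgSt.RepByAlgSpWith AlgSp.IsSurjectiveMor x₀)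
    (hc : AlgSt.RepByAlgSpWith (AlgSp.LocP P) (BasedFunctor.comp x₀ f)) : AlgSt.LocQ (AlgSp.LocP P) f := by
  obtain ⟨U, V, x, y, h, hg, hx, hxs, hy, -, -⟩ := exists_goodSq_atlas h𝒳 h𝒴 ⟨U₀, x₀, hx₀, hx₀s⟩ hb f
  exact locQ_of_goodSq hP h𝒳 hg hx hxs hy (goodSq_of_chart hP h𝒳 h𝒴 f x₀ hx₀ hx₀s hc x y (repByAlgSp1_of_with hy) h hg)

/-- A chain of charts for a composable pair of morphisms. -/
theorem exists_chain (h𝒳 : FibCat.IsFibGrpd 𝒳.p) (h𝒴 : FibCat.IsFibGrpd 𝒴.p) (h𝒵 : FibCat.IsFibGrpd 𝒵.p)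
    (ha : AlgSt.HasAtlas (AlgSp.LocP @Smooth) 𝒳) (hb : AlgSt.HasAtlas (AlgSp.LocP @Smooth) 𝒴)
    (hc : AlgSt.HasAtlas (AlgSp.LocP @Smooth) 𝒵) (f : 𝒳 ⥤ᵇ 𝒴) (g : 𝒴 ⥤ᵇ 𝒵) :
    ∃ (W U V : Over S) (x : FibCat.overCat W ⥤ᵇ 𝒳) (y : FibCat.overCat U ⥤ᵇ 𝒴) (z : FibCat.overCat V ⥤ᵇ 𝒵)
      (a : W ⟶ U) (b : U ⟶ V),
      AlgSt.RepByAlgSpWith (AlgSp.LocP @Smooth) x ∧ AlgSt.RepByAlgSpWith (AlgSp.LocP @Smooth) y ∧
      AlgSt.RepByAlgSpWith (AlgSp.LocP @Smooth) z ∧ Function.Surjective (AlgSt.Points.ofChart x) ∧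
      Function.Surjective (AlgSt.Points.ofChart y) ∧ GoodSq f x y a ∧ GoodSq g y z b ∧
      GoodSq (BasedFunctor.comp f g) x z (a ≫ b) ∧ (AlgSt.IsSurjective f → Surjective a.left) := by
  obtain ⟨U, V, y, z, b, hgb, hy, hys, hz, hzs, -⟩ := exists_goodSq_atlas h𝒴 h𝒵 hb hc g
  obtain ⟨W, x, a, hga, hx, hxs⟩ := K742.Chain.exists_goodSq h𝒳 h𝒴 ha f y hy
  refine ⟨W, U, V, x, y, z, a, b, hx, hy, hz, fun p => ?_, hys, hga, hgb,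
    K742.Chain.goodSq_comp h𝒳 h𝒴 hga hgb, fun hf => ⟨fun q => ?_⟩⟩
  · obtain ⟨q, hq⟩ := hys (AlgSt.Points.map f p)
    obtain ⟨t, ht, -⟩ := hxs p q hq.symm
    exact ⟨t, ht⟩
  · obtain ⟨p, hp⟩ := hf (AlgSt.Points.ofChart y q)
    obtain ⟨t, -, ht⟩ := hxs p q hp
    exact ⟨t, ht⟩

/-- Composition (S13038 for nice properties). -/
theorem locQ_comp (hP : NiceP P) (h𝒳 : FibCat.IsFibGrpd 𝒳.p) (h𝒴 : FibCat.IsFibGrpd 𝒴.p) (h𝒵 : FibCat.IsFibGrpd 𝒵.p)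
    (ha : AlgSt.HasAtlas (AlgSp.LocP @Smooth) 𝒳) (hb : AlgSt.HasAtlas (AlgSp.LocP @Smooth) 𝒴)
    (hc : AlgSt.HasAtlas (AlgSp.LocP @Smooth) 𝒵) (f : 𝒳 ⥤ᵇ 𝒴) (g : 𝒴 ⥤ᵇ 𝒵)
    (hf : AlgSt.LocQ (AlgSp.LocP P) f) (hg : AlgSt.LocQ (AlgSp.LocP P) g) :
    AlgSt.LocQ (AlgSp.LocP P) (BasedFunctor.comp f g) := by
  obtain ⟨W, U, V, x, y, z, a, b, hx, hy, hz, hxs, hys, ha', hb', hc', -⟩ := exists_chain h𝒳 h𝒴 h𝒵 ha hb hc f g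
  have := hP.comp
  refine locQ_of_goodSq hP h𝒳 hc' hx hxs hz ?_
  exact MorphismProperty.comp_mem _ _ _ (goodSq_of_locQ hP h𝒳 h𝒴 f hf x y (repByAlgSp1_of_with hy) a ha')
    (goodSq_of_locQ hP h𝒴 h𝒵 g hg y z (repByAlgSp1_of_with hz) b hb')

/-- Descent along a surjective morphism on the source, from the corresponding fact for schemes. -/
theorem locQ_of_comp_surjective (hP : NiceP P) (hQ : NiceP Q) (hR : NiceP R)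
    (h : ∀ ⦃A B C : Scheme.{u}⦄ (a : A ⟶ B) (b : B ⟶ C), P a → Surjective a → Q (a ≫ b) → R b)
    (h𝒳 : FibCat.IsFibGrpd 𝒳.p) (h𝒴 : FibCat.IsFibGrpd 𝒴.p) (h𝒵 : FibCat.IsFibGrpd 𝒵.p)
    (ha : AlgSt.HasAtlas (AlgSp.LocP @Smooth) 𝒳) (hb : AlgSt.HasAtlas (AlgSp.LocP @Smooth) 𝒴)
    (hc : AlgSt.HasAtlas (AlgSp.LocP @Smooth) 𝒵) (f : 𝒳 ⥤ᵇ 𝒴) (g : 𝒴 ⥤ᵇ 𝒵)
    (hf : AlgSt.LocQ (AlgSp.LocP P) f) (hs : AlgSt.IsSurjective f)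
    (hfg : AlgSt.LocQ (AlgSp.LocP Q) (BasedFunctor.comp f g)) : AlgSt.LocQ (AlgSp.LocP R) g := by
  obtain ⟨W, U, V, x, y, z, a, b, hx, hy, hz, hxs, hys, ha', hb', hc', hsurj⟩ := exists_chain h𝒳 h𝒴 h𝒵 ha hb hc f g
  exact locQ_of_goodSq hR h𝒴 hb' hy hys hz (h a.left b.left
    (goodSq_of_locQ hP h𝒳 h𝒴 f hf x y (repByAlgSp1_of_with hy) a ha') (hsurj hs)
    (goodSq_of_locQ hQ h𝒳 h𝒵 _ hfg x z (repByAlgSp1_of_with hz) (a ≫ b) hc'))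

/-- Descent with two properties of the first morphism. -/
theorem locQ_of_comp_surjective₂ {P' : MorphismProperty Scheme.{u}} (hP : NiceP P) (hP' : NiceP P') (hQ : NiceP Q)
    (hR : NiceP R)
    (h : ∀ ⦃A B C : Scheme.{u}⦄ (a : A ⟶ B) (b : B ⟶ C), P a → P' a → Surjective a → Q (a ≫ b) → R b)
    (h𝒳 : FibCat.IsFibGrpd 𝒳.p) (h𝒴 : FibCat.IsFibGrpd 𝒴.p) (h𝒵 : FibCat.IsFibGrpd 𝒵.p)
    (ha : AlgSt.HasAtlas (AlgSp.LocP @Smooth) 𝒳) (hb : AlgSt.HasAtlas (AlgSp.LocP @Smooth) 𝒴)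
    (hc : AlgSt.HasAtlas (AlgSp.LocP @Smooth) 𝒵) (f : 𝒳 ⥤ᵇ 𝒴) (g : 𝒴 ⥤ᵇ 𝒵)
    (hf : AlgSt.LocQ (AlgSp.LocP P) f) (hf' : AlgSt.LocQ (AlgSp.LocP P') f) (hs : AlgSt.IsSurjective f)
    (hfg : AlgSt.LocQ (AlgSp.LocP Q) (BasedFunctor.comp f g)) : AlgSt.LocQ (AlgSp.LocP R) g := by
  obtain ⟨W, U, V, x, y, z, a, b, hx, hy, hz, hxs, hys, ha', hb', hc', hsurj⟩ := exists_chain h𝒳 h𝒴 h𝒵 ha hb hc f g
  exact locQ_of_goodSq hR h𝒴 hb' hy hys hz (h a.left b.left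
    (goodSq_of_locQ hP h𝒳 h𝒴 f hf x y (repByAlgSp1_of_with hy) a ha')
    (goodSq_of_locQ hP' h𝒳 h𝒴 f hf' x y (repByAlgSp1_of_with hy) a ha') (hsurj hs)
    (goodSq_of_locQ hQ h𝒳 h𝒵 _ hfg x z (repByAlgSp1_of_with hz) (a ≫ b) hc'))

/-- Cancellation, from the corresponding fact for schemes. -/
theorem locQ_of_comp (hP : NiceP P) (hQ : NiceP Q) (hR : NiceP R)
    (h : ∀ ⦃A B C : Scheme.{u}⦄ (a : A ⟶ B) (b : B ⟶ C), P b → Q (a ≫ b) → R a)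
    (h𝒳 : FibCat.IsFibGrpd 𝒳.p) (h𝒴 : FibCat.IsFibGrpd 𝒴.p) (h𝒵 : FibCat.IsFibGrpd 𝒵.p)
    (ha : AlgSt.HasAtlas (AlgSp.LocP @Smooth) 𝒳) (hb : AlgSt.HasAtlas (AlgSp.LocP @Smooth) 𝒴)
    (hc : AlgSt.HasAtlas (AlgSp.LocP @Smooth) 𝒵) (f : 𝒳 ⥤ᵇ 𝒴) (g : 𝒴 ⥤ᵇ 𝒵)
    (hg : AlgSt.LocQ (AlgSp.LocP P) g)
    (hfg : AlgSt.LocQ (AlgSp.LocP Q) (BasedFunctor.comp f g)) : AlgSt.LocQ (AlgSp.LocP R) f := by
  obtain ⟨W, U, V, x, y, z, a, b, hx, hy, hz, hxs, hys, ha', hb', hc', -⟩ := exists_chain h𝒳 h𝒴 h𝒵 ha hb hc f g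
  exact locQ_of_goodSq hR h𝒳 ha' hx hxs hy (h a.left b.left
    (goodSq_of_locQ hP h𝒴 h𝒵 g hg y z (repByAlgSp1_of_with hz) b hb')
    (goodSq_of_locQ hQ h𝒳 h𝒵 _ hfg x z (repByAlgSp1_of_with hz) (a ≫ b) hc'))

/-- Representable morphisms with `LocP P` satisfy `LocQ (LocP P)`. -/
theorem locQ_of_rep (hP : NiceP P) (h𝒳 : FibCat.IsFibGrpd 𝒳.p) (h𝒴 : FibCat.IsFibGrpd 𝒴.p)
    (ha : AlgSt.HasAtlas (AlgSp.LocP @Smooth) 𝒳) (hb : AlgSt.HasAtlas (AlgSp.LocP @Smooth) 𝒴) (f : 𝒳 ⥤ᵇ 𝒴)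
    (hf : AlgSt.RepByAlgSpWith (AlgSp.LocP P) f) : AlgSt.LocQ (AlgSp.LocP P) f := by
  obtain ⟨U, V, x, y, h, hg, hx, hxs, hy, -, -⟩ := exists_goodSq_atlas h𝒳 h𝒴 ha hb f
  refine locQ_of_goodSq hP h𝒳 hg hx hxs hy ?_
  obtain ⟨α, hα⟩ := hg
  refine (hP.overMap_iff h).1 (?_ : AlgSt.RepByAlgSpWith (AlgSp.LocP P)
    (BasedFunctor.comp (FibCat.fpLift x (AlgSt.overMap h) α) (FibCat.fpSnd f y)))
  exact hP.comp_rep (isFibGrpd_overCat U) (isFibGrpd_fp h𝒳 (isFibGrpd_overCat V) h𝒴 f y) (hP.of_smooth hα)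
    (K742.RepComp.repByAlgSpWith_fpSnd f y hf)

end K742.EvQ
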