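import Groth.Agent.AlgSp.K627.FpqcLocPInst
import Groth.Agent.S10505
import Groth.Agent.AlgSt.K734.RepSp2

/-!
# Composition of `RepByAlgSpWith (LocP P)` for the usual `P` (helper742)
-/

set_option autoImplicit false
set_option backward.isDefEq.respectTransparency false
set_option backward.isDefEq.respectTransparency.types false

universe v₄ u₄ u

open CategoryTheory CategoryTheory.Limits AlgebraicGeometry Opposite

namespace K742.SmComp

variable {S : Scheme.{u}}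

theorem isLocalOnBase_fppf_of_fpqc {P : MorphismProperty (AlgSp.Sp S)}
    (h : AlgSp.IsLocalOnBase (AlgSp.IsFpqcCover (S := S)) P) : AlgSp.IsLocalOnBase AlgSp.IsFppfCover P := by
  intro ι Y Yi g hY hYi hg
  exact h Yi g hY hYi (Groth.Agent.S10505.result ⟨Y, hY⟩ (fun i => ⟨Yi i, hYi i⟩)
    (fun i => ObjectProperty.homMk (g i)) hg)

theorem stableBC_locP {P : MorphismProperty Scheme.{u}} (hP : K597.EtLoc P) [P.IsStableUnderBaseChange] :
    K734.Rep.StableBC (S := S) (AlgSp.LocP P) :=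
  fun _ _ _ _ h₁ h₂ _ h₄ _ _ _ _ sq h => K597.locP_bc hP sq h₁.hasAtlas h₂.hasAtlas h₄.hasAtlas h

theorem stableComp_locP {P : MorphismProperty Scheme.{u}} (hP : K597.EtLoc P) [P.IsStableUnderComposition] :
    K734.Rep.StableComp (S := S) (AlgSp.LocP P) :=
  fun _ _ _ hX hY hZ _ _ ha hb => K597.locP_comp hP hX.hasAtlas hY.hasAtlas hZ.hasAtlas ha hb

/-- Composition of smooth 1-morphisms representable by algebraic spaces. -/
theorem smooth_comp {𝒳 𝒴 : AlgSt.Cat S} {𝒵 : BasedCategory.{v₄, u₄} (Over S)} (h𝒳 : FibCat.IsFibGrpd 𝒳.p)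
    (h𝒴 : FibCat.IsFibGrpd 𝒴.p) (f : 𝒳 ⥤ᵇ 𝒴) (g : 𝒴 ⥤ᵇ 𝒵)
    (hf : AlgSt.RepByAlgSpWith (AlgSp.LocP @Smooth) f) (hg : AlgSt.RepByAlgSpWith (AlgSp.LocP @Smooth) g) :
    AlgSt.RepByAlgSpWith (AlgSp.LocP @Smooth) (BasedFunctor.comp f g) :=
  K734.Rep.repByAlgSpWith_comp h𝒳 h𝒴 (stableBC_locP K597.etLoc_smooth) (stableComp_locP K597.etLoc_smooth)
    (isLocalOnBase_fppf_of_fpqc (K627.FpqcLocPInst.smooth S)) hf hg

end K742.SmComp
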