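import Groth.Agent.AlgSt.K742.Sq
import Groth.Agent.AlgSt.K742.SmComp
import Groth.Agent.AlgSt.K742.RepComp
import Groth.Agent.AlgSt.K740.SpIso

/-!
# Good squares of charts for morphisms of algebraic stacks (helper742)

* `exists_atlas_fp`: the 2-fibre product of `f : 𝒳 ⟶ 𝒴` with a chart `y : (Sch/V) ⟶ 𝒴` representable by algebraic spaces has a
  smooth surjective chart from a scheme, when `𝒳` has one.
* `goodSq_comp`: squares of charts with smooth map to the 2-fibre product compose.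
* `exists_goodSq`: every smooth chart of the target is the bottom of a good square with surjective map to the 2-fibre product.
-/

set_option autoImplicit false
set_option backward.isDefEq.respectTransparency false
set_option backward.isDefEq.respectTransparency.types false

universe v₆ u₆ v₅ u₅ v₄ u₄ v₃ u₃ v₂ u₂ v u

open CategoryTheory CategoryTheory.Limits AlgebraicGeometry Opposite
open K735.Fib K735.Fp K735.Rep K742.Sq

namespace K742.Chain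

variable {S : Scheme.{u}} {𝒳 𝒴 𝒵 : AlgSt.Cat S}

/-- Good squares compose. -/
theorem goodSq_comp (h𝒳 : FibCat.IsFibGrpd 𝒳.p) (h𝒴 : FibCat.IsFibGrpd 𝒴.p)
    {f : 𝒳 ⥤ᵇ 𝒴} {g : 𝒴 ⥤ᵇ 𝒵} {U V W : Over S} {x : FibCat.overCat U ⥤ᵇ 𝒳} {y : FibCat.overCat V ⥤ᵇ 𝒴}
    {z : FibCat.overCat W ⥤ᵇ 𝒵} {a : U ⟶ V} {b : V ⟶ W} (h₁ : GoodSq f x y a) (h₂ : GoodSq g y z b) :
    GoodSq (BasedFunctor.comp f g) x z (a ≫ b) := by
  obtain ⟨α, hα⟩ := h₁
  obtain ⟨β, hβ⟩ := h₂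
  refine ⟨compIso α β, ?_⟩
  obtain ⟨i⟩ := nonempty_lift_iso α β
  refine repByAlgSpWith_of_iso _ i ?_
  refine K742.SmComp.smooth_comp (isFibGrpd_overCat U) (isFibGrpd_fp h𝒳 (isFibGrpd_overCat V) h𝒴 f y)
    _ _ hα ?_
  exact (isCart_m f g y z (AlgSt.overMap b) β).repByAlgSpWith hβ

theorem smooth_of_isEquivOver {f : 𝒳 ⥤ᵇ 𝒴} (hf : FibCat.IsEquivOver f) :
    AlgSt.RepByAlgSpWith (AlgSp.LocP @Smooth) f :=
  K740.SpIso.repByAlgSpWith_of_isEquivOver (fun U => K740.SpIso.locP_id (P := @Smooth)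
    (fun f hf => by have := hf; infer_instance) _) hf

/-- A smooth surjective chart of the 2-fibre product `𝒳 ×_𝒴 (Sch/V)`. -/
theorem exists_atlas_fp (h𝒳 : FibCat.IsFibGrpd 𝒳.p) (h𝒴 : FibCat.IsFibGrpd 𝒴.p)
    (ha : AlgSt.HasAtlas (AlgSp.LocP @Smooth) 𝒳) (f : 𝒳 ⥤ᵇ 𝒴) {V : Over S} (y : FibCat.overCat V ⥤ᵇ 𝒴)
    (hy : AlgSt.RepByAlgSp1 y) :
    ∃ (T : Over S) (w : FibCat.overCat T ⥤ᵇ FibCat.fp f y), AlgSt.RepByAlgSpWith (AlgSp.LocP @Smooth) w ∧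
      Function.Surjective (AlgSt.Points.map w) := by
  obtain ⟨U, x, hx, hxs⟩ := ha
  obtain ⟨F, e, he⟩ := hy U (BasedFunctor.comp x f)
  obtain ⟨T, p, hp, hps⟩ := F.property.atlas
  have hfp : FibCat.IsFibGrpd (FibCat.fp f y).p := isFibGrpd_fp h𝒳 (isFibGrpd_overCat V) h𝒴 f y
  have hfp' : FibCat.IsFibGrpd (FibCat.fp x (FibCat.fpFst f y)).p :=
    isFibGrpd_fp (isFibGrpd_overCat U) hfp h𝒳 x (FibCat.fpFst f y)
  let E : AlgSt.ofSp F.obj ⥤ᵇ FibCat.fp x (FibCat.fpFst f y) := BasedFunctor.comp e (K734.Fib.fpPaste x f y)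
  have hE : FibCat.IsEquivOver E := IsEquivOver.comp he (K734.Fib.isEquivOver_fpPaste x f y)
  have h1 : AlgSt.RepByAlgSpWith (AlgSp.LocP @Smooth) (FibCat.fpSnd x (FibCat.fpFst f y)) :=
    K742.RepComp.repByAlgSpWith_fpSnd x (FibCat.fpFst f y) hx
  have h1s : AlgSt.RepByAlgSpWith AlgSp.IsSurjectiveMor (FibCat.fpSnd x (FibCat.fpFst f y)) :=
    K742.RepComp.repByAlgSpWith_fpSnd x (FibCat.fpFst f y) hxs
  have h2 := K735.Top.repByAlgSpWith_smooth_chart hp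
  have h2s := K735.Top.repByAlgSpWith_surjective_chart hps
  refine ⟨T, BasedFunctor.comp (K735.SpFp.chart p) (BasedFunctor.comp E (FibCat.fpSnd x (FibCat.fpFst f y))), ?_, ?_⟩
  · exact K742.SmComp.smooth_comp (isFibGrpd_overCat T) (isFibGrpd_ofSp F.obj) _ _ h2
      (K742.SmComp.smooth_comp (isFibGrpd_ofSp F.obj) hfp' _ _ (smooth_of_isEquivOver hE) h1)
  · have e1 := K735.Top.surjective_of_repByAlgSpWith (isFibGrpd_ofSp F.obj) (isFibGrpd_overCat T) h2s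
    have e2 := (K735.Pts.map_bijective_of_isEquivOver hE).2
    have e3 := K735.Top.surjective_of_repByAlgSpWith hfp hfp' h1s
    intro t
    obtain ⟨t, rfl⟩ := e3 t
    obtain ⟨t, rfl⟩ := e2 t
    obtain ⟨t, rfl⟩ := e1 t
    exact ⟨t, by rw [K735.Pts.map_comp, K735.Pts.map_comp]⟩

/-- Every smooth chart of the target is the bottom of a good square with surjective map to the fibre product. -/
theorem exists_goodSq (h𝒳 : FibCat.IsFibGrpd 𝒳.p) (h𝒴 : FibCat.IsFibGrpd 𝒴.p)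
    (ha : AlgSt.HasAtlas (AlgSp.LocP @Smooth) 𝒳)
    (f : 𝒳 ⥤ᵇ 𝒴) {V : Over S} (y : FibCat.overCat V ⥤ᵇ 𝒴) (hy : AlgSt.RepByAlgSpWith (AlgSp.LocP @Smooth) y) :
    ∃ (U : Over S) (x : FibCat.overCat U ⥤ᵇ 𝒳) (a : U ⟶ V), GoodSq f x y a ∧
      AlgSt.RepByAlgSpWith (AlgSp.LocP @Smooth) x ∧
      (∀ (p : AlgSt.Points 𝒳) (q : ↥V.left), AlgSt.Points.map f p = AlgSt.Points.ofChart y q →
        ∃ t : ↥U.left, AlgSt.Points.ofChart x t = p ∧ a.left t = q) := by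
  obtain ⟨U, w, hw, hws⟩ := exists_atlas_fp h𝒳 h𝒴 ha f y (repByAlgSp1_of_with hy)
  obtain ⟨a, ⟨i⟩⟩ := K735.Top.exists_iso_overMap (BasedFunctor.comp w (FibCat.fpSnd f y))
  let x := BasedFunctor.comp w (FibCat.fpFst f y)
  refine ⟨U, x, a, ⟨sqIso f y w i, ?_⟩, ?_, ?_⟩
  · obtain ⟨k⟩ := nonempty_iso_fpLift f y w i
    exact repByAlgSpWith_of_iso _ k hw
  · refine K742.SmComp.smooth_comp (isFibGrpd_overCat U) (isFibGrpd_fp h𝒳 (isFibGrpd_overCat V) h𝒴 f y) _ _ hw ?_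
    exact K742.RepComp.repByAlgSpWith_fpFst f y hy
  · intro p q h
    obtain ⟨ω, h1, h2⟩ := K735.Pts.exists_fp (isFibGrpd_overCat V) h𝒳 h𝒴 f y p
      (AlgSt.Points.ofChart (BasedFunctor.id _) q) h
    obtain ⟨t, ht⟩ := (K735.PtsSp.surjective_map_iff_surjective_ofChart w).1 hws ω
    refine ⟨t, ?_, ?_⟩
    · rw [← h1, ← ht]
      rfl
    · apply (K735.PtsSp.ofChart_id_bijective V).1
      rw [← h2, ← ht, ← K735.PtsSp.ofChart_overMap]
      exact (K735.PtsSp.ofChart_congr i t).symm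

end K742.Chain
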