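import Groth.Agent.AlgSt.K742.EvQ

/-!
# Flat and locally finitely presented morphisms are open (helper742)
-/

set_option autoImplicit false
set_option backward.isDefEq.respectTransparency false
set_option backward.isDefEq.respectTransparency.types false

universe v₄ u₄ v u

open CategoryTheory CategoryTheory.Limits AlgebraicGeometry Opposite
open K735.Fib K735.Fp K735.Rep K742.Sq

namespace K742.EvQ

variable {S : Scheme.{u}} {𝒳 𝒴 𝒵 : AlgSt.Cat S} {P Q R : MorphismProperty Scheme.{u}}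

/-- A morphism with a chart square whose morphism of schemes is open is open on points. -/
theorem isOpenMor_of_square (h𝒳 : FibCat.IsFibGrpd 𝒳.p) (h𝒴 : FibCat.IsFibGrpd 𝒴.p)
    (f : 𝒳 ⥤ᵇ 𝒴) {U V : Over S} (x : FibCat.overCat U ⥤ᵇ 𝒳)
    (y : FibCat.overCat V ⥤ᵇ 𝒴) (h : U ⟶ V) (α : BasedFunctor.comp x f ≅ BasedFunctor.comp (AlgSt.overMap h) y)
    (hx : AlgSt.RepByAlgSpWith (AlgSp.LocP @Smooth) x) (hxs : Function.Surjective (AlgSt.Points.ofChart x))
    (hy : AlgSt.RepByAlgSpWith (AlgSp.LocP @Smooth) y)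
    (ho : IsOpenMap h.left) : AlgSt.IsOpenMor f := by
  have hxc : Continuous (AlgSt.Points.ofChart x) :=
    K735.Top.chartCont_of_atlas h𝒳 x hx ((K735.PtsSp.surjective_map_iff_surjective_ofChart x).2 hxs) U x
  have hyo : IsOpenMap (AlgSt.Points.ofChart y) := K735.Top.isOpenMap_ofChart y
    (K735.Top.isOpenMap_map K735.Top.isOpenMap_of_smooth h𝒴 (isFibGrpd_overCat V)
      (K735.Top.chartCont_overCat V) hy)
  have key : AlgSt.Points.map f ∘ AlgSt.Points.ofChart x = AlgSt.Points.ofChart y ∘ h.left := by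
    funext t
    change AlgSt.Points.ofChart (BasedFunctor.comp x f) t = AlgSt.Points.ofChart y (h.left t)
    rw [K735.PtsSp.ofChart_congr α, K735.PtsSp.ofChart_overMap]
  intro W hW
  have h1 : AlgSt.Points.map f '' W = AlgSt.Points.ofChart y '' (h.left '' (AlgSt.Points.ofChart x ⁻¹' W)) := by
    rw [← Set.image_comp, ← key, Set.image_comp, Set.image_preimage_eq _ hxs]
  rw [h1]
  exact hyo _ (ho _ (hW.preimage hxc))

/-- S13008. -/
theorem isOpenMor_of_flat_lfp (h𝒳 : FibCat.IsFibGrpd 𝒳.p) (h𝒴 : FibCat.IsFibGrpd 𝒴.p)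
    (ha : AlgSt.HasAtlas (AlgSp.LocP @Smooth) 𝒳) (hb : AlgSt.HasAtlas (AlgSp.LocP @Smooth) 𝒴) (f : 𝒳 ⥤ᵇ 𝒴)
    (h1 : AlgSt.LocQ (AlgSp.LocP @Flat) f) (h2 : AlgSt.LocQ (AlgSp.LocP @LocallyOfFinitePresentation) f) :
    AlgSt.IsOpenMor f := by
  obtain ⟨U, V, x, y, h, hg, hx, hxs, hy, -, -⟩ := exists_goodSq_atlas h𝒳 h𝒴 ha hb f
  have e1 : Flat h.left := goodSq_of_locQ nice_flat h𝒳 h𝒴 f h1 x y (repByAlgSp1_of_with hy) h hg
  have e2 : LocallyOfFinitePresentation h.left :=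
    goodSq_of_locQ nice_lfp h𝒳 h𝒴 f h2 x y (repByAlgSp1_of_with hy) h hg
  obtain ⟨α, -⟩ := hg
  exact isOpenMor_of_square h𝒳 h𝒴 f x y h α hx hxs hy (K735.Top.isOpenMap_of_flat_lfp _ ⟨e1, e2⟩)

end K742.EvQ
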