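import Groth.Agent.AlgSt.K742.LN
import Groth.Agent.AlgSt.K740.SpDM
import Groth.Agent.AlgSt.K738.YonProps
import Groth.Agent.AlgSt.K738.RepSep
import Groth.Agent.AlgSt.K739.Props
import Groth.Agent.AlgSp.K595.DiagBasic

/-!
# Immersions into locally Noetherian algebraic stacks are quasi-compact (helper742)
-/

set_option autoImplicit false
set_option backward.isDefEq.respectTransparency false
set_option backward.isDefEq.respectTransparency.types false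

universe v₄ u₄ v u

open CategoryTheory CategoryTheory.Limits AlgebraicGeometry Opposite
open K735.Fib K735.Fp K735.Rep K742.Sq K742.EvQ

namespace K742.LN

variable {S : Scheme.{u}} {𝒳 𝒴 𝒵 : AlgSt.Cat S}

/-- An immersion into a locally Noetherian scheme is quasi-compact. -/
theorem quasiCompact_of_isImmersion {X Y : Scheme.{u}} (f : X ⟶ Y) [IsImmersion f] [IsLocallyNoetherian Y] :
    QuasiCompact f := by
  rw [← f.liftCoborder_ι]
  have : QuasiCompact f.coborderRange.ι := inferInstance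
  infer_instance

theorem repWith_qc_of_imm {F : AlgSp.Sp S} {V : Over S} [IsLocallyNoetherian V.left] (q : F ⟶ (AlgSp.yon S).obj V)
    (hq : AlgSp.RepWith @IsImmersion q) : AlgSp.RepWith @QuasiCompact q := by
  obtain ⟨W, fst, w, sq, hw⟩ := K597.exists_sq hq (𝟙 _)
  have h1 : IsImmersion w.left := hw
  have h2 : AlgSp.RepWith @QuasiCompact ((AlgSp.yon S).map w) :=
    (AlgSp.repWith_yon_map_iff @QuasiCompact w).2 (quasiCompact_of_isImmersion w.left)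
  have : IsIso fst := sq.isIso_fst_of_isIso
  have h3 : fst ≫ q = (AlgSp.yon S).map w := by simpa using sq.w
  have h4 : q = inv fst ≫ (AlgSp.yon S).map w := by rw [← h3, IsIso.inv_hom_id_assoc]
  rw [h4]
  exact (MorphismProperty.cancel_left_of_respectsIso (AlgSp.RepWith (S := S) @QuasiCompact) _ _).2 h2

theorem repByAlgSpWith_qc_of_imm {𝒜 : BasedCategory.{v₄, u₄} (Over S)} {V : Over S} [IsLocallyNoetherian V.left]
    (k : 𝒜 ⥤ᵇ FibCat.overCat V) (hk : AlgSt.RepByAlgSpWith (AlgSp.RepWith @IsImmersion) k) :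
    AlgSt.RepByAlgSpWith AlgSp.IsQuasiCompactMor k := by
  obtain ⟨F, e, he, hq⟩ := hk V (BasedFunctor.id _)
  set Φ := BasedFunctor.comp e (FibCat.fpFst (BasedFunctor.id _) k) with hΦ
  obtain ⟨i⟩ := exists_iso_spMapOfOver Φ
  have h1 : AlgSt.RepByAlgSpWith AlgSp.IsQuasiCompactMor (AlgSt.ofSpMap (AlgSt.spMapOfOver Φ)) :=
    K740.SpDM.repByAlgSpWith_ofSpMap_of_repWith (Q := @QuasiCompact) _ (repWith_qc_of_imm _ hq)
      (fun w hw => (K738.isQuasiCompactMor_yon_iff w).2 hw)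
  refine (repByAlgSpWith_iff_of_sq AlgSp.IsQuasiCompactMor k (AlgSt.ofSpMap (AlgSt.spMapOfOver Φ))
    (BasedFunctor.comp e (FibCat.fpSnd (BasedFunctor.id _) k)) (AlgSt.toOverCat V)
    (IsEquivOver.comp he (K734.Fib.isEquivOver_fpSnd _ k isEquivOver_id)) (isEquivOver_toOverCat V)
    (i.symm ≪≫ K743.BC.whiskerLeftIso e (FibCat.fpIso (BasedFunctor.id _) k))).2 h1

local notation "Alg" => AlgSt.IsAlgStack Scheme.fppfPrecoverage

/-- S13017. -/
theorem isQuasiCompactMor_of_isImm (h𝒳 : Alg 𝒳) (h𝒴 : Alg 𝒴) (j : 𝒳 ⥤ᵇ 𝒴) (hj : AlgSt.IsImm j)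
    (h : AlgSt.SmoothLocally (fun T ↦ IsLocallyNoetherian T) 𝒴) : AlgSt.IsQuasiCompactMor Scheme.fppfPrecoverage j := by
  obtain ⟨V, v, hv, hvs⟩ := h𝒴.atlas
  have hV : IsLocallyNoetherian V.left := h V v hv
  have hVa := K742.QC.isAlgStack_overCat V
  have h1 : AlgSt.RepByAlgSpWith AlgSp.IsQuasiCompactMor (FibCat.fpFst v j) :=
    repByAlgSpWith_qc_of_imm _ (K742.RepComp.repByAlgSpWith_fpFst v j hj)
  have h2 : Alg (FibCat.fp v j) := K742.QC.isAlgStack_fp hVa h𝒳 h𝒴 v j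
  refine isQuasiCompactMor_of_fppf h𝒳 h𝒴 hVa j v
    (locQ_of_rep nice_flat hVa.isStack.1 h𝒴.isStack.1 hVa.atlas h𝒴.atlas v (nice_flat.of_smooth hv))
    (locQ_of_rep nice_lfp hVa.isStack.1 h𝒴.isStack.1 hVa.atlas h𝒴.atlas v (nice_lfp.of_smooth hv))
    (K735.Top.surjective_of_repByAlgSpWith h𝒴.isStack.1 hVa.isStack.1 hvs)
    (K742.QC.isQuasiCompactMor_of_repByAlgSpWith h2 hVa _ h1)

theorem isQuasiCompact_of_qcMor (h𝒳 : Alg 𝒳) (h𝒴 : Alg 𝒴) (f : 𝒳 ⥤ᵇ 𝒴)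
    (hf : AlgSt.IsQuasiCompactMor Scheme.fppfPrecoverage f) (h : AlgSt.IsQuasiCompact 𝒴) : AlgSt.IsQuasiCompact 𝒳 :=
  K742.QC.isQuasiCompact_of_isEquivOver (K742.QC.isAlgStack_fp h𝒴 h𝒳 h𝒴 (BasedFunctor.id _) f) h𝒳
    (FibCat.fpSnd (BasedFunctor.id _) f) (K734.Fib.isEquivOver_fpSnd _ f isEquivOver_id)
    (hf 𝒴 h𝒴 h (BasedFunctor.id _))

theorem isQuasiSeparatedMor_of_isImm (j : 𝒳 ⥤ᵇ 𝒴) (hj : AlgSt.IsImm j) : AlgSt.IsQuasiSeparatedMor j := by
  refine (K738.isQuasiSeparatedMor_iff (repByAlgSp1_of_with hj)).2 (AlgSt_RepByAlgSpWith_mono ?_ hj)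
  intro X Y a ha
  have h1 : AlgSp.RepWith @QuasiSeparated a := K609.Points.repWith_mono (P := @IsImmersion) (Q := @QuasiSeparated)
    (fun k hk => by have : IsImmersion k := hk; infer_instance) ha
  exact (K595.DiagBasic.isQuasiSeparatedMor_iff_repWith ha.1).2 h1

theorem isQuasiSeparatedOver_of_isImm (h𝒳 : FibCat.IsFibGrpd 𝒳.p) (h𝒴 : FibCat.IsFibGrpd 𝒴.p) (j : 𝒳 ⥤ᵇ 𝒴)
    (hj : AlgSt.IsImm j) (h : AlgSt.IsQuasiSeparatedOver 𝒴) : AlgSt.IsQuasiSeparatedOver 𝒳 :=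
  K739.DiagComp.repByAlgSpWith_diag_congr (K734.Rep.isoSelfOver _ (BasedFunctor.comp j (FibCat.toSelf 𝒴)))
    h𝒳 isFibGrpd_selfOver <| K739.DiagComp.repByAlgSpWith_diag_comp h𝒳 h𝒴 isFibGrpd_selfOver j (FibCat.toSelf 𝒴)
    K739.Props.bc_qcqs K739.Props.comp_qcqs K739.Props.fppfDesc_qcqs.etDesc (isQuasiSeparatedMor_of_isImm j hj) h

end K742.LN
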