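import Groth.Agent.AlgSt.K742.Chain
import Groth.Agent.AlgSt.K734.FibFp
import Groth.Agent.AlgSp.K629.SchDesc
import Groth.Agent.AlgSp.K597.EtLoc
import Groth.Agent.AlgSp.K613.Chart

/-!
# Properties of morphisms of schemes that behave well on charts of algebraic stacks (helper742)

`NiceP P`: `P` contains the smooth morphisms, is stable under base change and composition, etale local, `LocP P` is
fpqc local on the base, and `P` descends along smooth surjective morphisms on the source.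
Instances: flat, locally of finite type, locally of finite presentation, smooth.
-/

set_option autoImplicit false
set_option backward.isDefEq.respectTransparency false
set_option backward.isDefEq.respectTransparency.types false

universe v₄ u₄ v u

open CategoryTheory CategoryTheory.Limits AlgebraicGeometry Opposite
open K735.Fib K735.Fp K735.Rep K742.Sq

namespace K742

/-- Properties of morphisms of schemes that behave well on smooth charts of algebraic stacks. -/
structure NiceP (P : MorphismProperty Scheme.{u}) : Prop where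
  et : K597.EtLoc P
  bc : P.IsStableUnderBaseChange
  comp : P.IsStableUnderComposition
  smooth : ∀ ⦃X Y : Scheme.{u}⦄ (f : X ⟶ Y), Smooth f → P f
  base : ∀ S : Scheme.{u}, AlgSp.IsLocalOnBase (AlgSp.IsFpqcCover (S := S)) (AlgSp.LocP P)
  desc : ∀ ⦃A B C : Scheme.{u}⦄ (t : A ⟶ B) (h : B ⟶ C), Smooth t → Surjective t → P (t ≫ h) → P h

theorem nice_flat : NiceP @Flat.{u} where
  et := K597.etLoc_flat
  bc := inferInstance
  comp := inferInstance
  smooth := fun _ _ f hf => by have := hf; infer_instance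
  base := K627.FpqcLocPInst.flat
  desc := fun _ _ _ t h ht hs hc => K629.SchDesc.flat t h (by infer_instance) hs hc

theorem nice_lft : NiceP @LocallyOfFiniteType.{u} where
  et := K597.etLoc_lft
  bc := inferInstance
  comp := inferInstance
  smooth := fun _ _ f hf => by have := hf; infer_instance
  base := K627.FpqcLocPInst.lft
  desc := fun _ _ _ t h ht hs hc => K629.SchDesc.lft t h (by infer_instance) (by infer_instance) hs hc

theorem nice_lfp : NiceP @LocallyOfFinitePresentation.{u} where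
  et := K597.etLoc_lfp
  bc := inferInstance
  comp := inferInstance
  smooth := fun _ _ f hf => by have := hf; infer_instance
  base := K627.FpqcLocPInst.lfp
  desc := fun _ _ _ t h ht hs hc => K629.SchDesc.lfp t h (by infer_instance) (by infer_instance) hs hc

theorem nice_smooth : NiceP @Smooth.{u} where
  et := K597.etLoc_smooth
  bc := inferInstance
  comp := inferInstance
  smooth := fun _ _ f hf => hf
  base := K627.FpqcLocPInst.smooth
  desc := fun _ _ _ t h ht hs hc => K629.SchDesc.smooth t h (by infer_instance) (by infer_instance) hs hc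

namespace NiceP

variable {P : MorphismProperty Scheme.{u}} {S : Scheme.{u}}

theorem stableBC (hP : NiceP P) : K734.Rep.StableBC (S := S) (AlgSp.LocP P) :=
  have := hP.bc
  K742.SmComp.stableBC_locP hP.et

theorem fppf (hP : NiceP P) : AlgSp.IsLocalOnBase (S := S) AlgSp.IsFppfCover (AlgSp.LocP P) :=
  K742.SmComp.isLocalOnBase_fppf_of_fpqc (hP.base S)

theorem of_smooth (hP : NiceP P) {𝒳 : AlgSt.Cat S} {𝒴 : BasedCategory.{v₄, u₄} (Over S)} {f : 𝒳 ⥤ᵇ 𝒴}
    (hf : AlgSt.RepByAlgSpWith (AlgSp.LocP @Smooth) f) : AlgSt.RepByAlgSpWith (AlgSp.LocP P) f :=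
  AlgSt_RepByAlgSpWith_mono (fun _ _ _ h => K597.locP_mono (fun _ _ k hk => hP.smooth k hk) h) hf

/-- Composition. -/
theorem comp_rep (hP : NiceP P) {𝒳 𝒴 : AlgSt.Cat S} {𝒵 : BasedCategory.{v₄, u₄} (Over S)}
    (h𝒳 : FibCat.IsFibGrpd 𝒳.p) (h𝒴 : FibCat.IsFibGrpd 𝒴.p) {f : 𝒳 ⥤ᵇ 𝒴} {g : 𝒴 ⥤ᵇ 𝒵}
    (hf : AlgSt.RepByAlgSpWith (AlgSp.LocP P) f) (hg : AlgSt.RepByAlgSpWith (AlgSp.LocP P) g) :
    AlgSt.RepByAlgSpWith (AlgSp.LocP P) (BasedFunctor.comp f g) :=
  have := hP.comp
  K734.Rep.repByAlgSpWith_comp h𝒳 h𝒴 hP.stableBC (K742.SmComp.stableComp_locP hP.et) hP.fppf hf hg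

/-- `LocP P` of a morphism of representable sheaves. -/
theorem yon_iff (hP : NiceP P) {U V : Over S} (h : U ⟶ V) :
    AlgSp.LocP P ((AlgSp.yon S).map h) ↔ P h.left :=
  ⟨fun hq => hq (𝟙 _) (𝟙 _) h (AlgSp.repWith_id _ U) (AlgSp.repWith_id _ V) (by simp),
    fun hq => K597.locP_of_chart hP.et _ (𝟙 _) (𝟙 _) h (AlgSp.repWith_id _ U) (AlgSp.repWith_id _ U)
      (AlgSp.repWith_id _ V) (by simp) hq⟩

/-- `overMap h` has `LocP P` iff `h` has `P`. -/
theorem overMap_iff (hP : NiceP P) {U V : Over S} (h : U ⟶ V) :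
    AlgSt.RepByAlgSpWith (AlgSp.LocP P) (AlgSt.overMap h) ↔ P h.left := by
  have hr := K735.Top.locP_respectsIso (S := S) P
  have e1 : AlgSt.RepByAlgSpWith (AlgSp.LocP P) (AlgSt.overMap h) ↔
      AlgSt.RepByAlgSpWith (AlgSp.LocP P) (AlgSt.ofSpMap ((AlgSp.yon S).map h)) :=
    repByAlgSpWith_iff_of_sq _ (AlgSt.overMap h) (AlgSt.ofSpMap ((AlgSp.yon S).map h)) (AlgSt.toOverCat U)
      (AlgSt.toOverCat V) (isEquivOver_toOverCat U) (isEquivOver_toOverCat V) (Iso.refl _)
  rw [e1, K735.SpFp.repByAlgSpWith_ofSpMap_iff]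
  constructor
  · intro H
    exact (hP.yon_iff h).1 (H (𝟙 _) ((AlgSp.yon S).map h) (𝟙 _) (IsPullback.of_horiz_isIso ⟨by simp⟩).flip).2
  · intro H T Q g fst snd sq
    exact ⟨K613.Chart.isAlgSpace_of_isPullback (AlgSp.IsAlgSpace.yon_obj V).diag (AlgSp.IsAlgSpace.yon_obj T)
      (AlgSp.IsAlgSpace.yon_obj U) sq,
      hP.stableBC (AlgSp.IsAlgSpace.yon_obj U) (AlgSp.IsAlgSpace.yon_obj V) 
        (K613.Chart.isAlgSpace_of_isPullback (AlgSp.IsAlgSpace.yon_obj V).diag (AlgSp.IsAlgSpace.yon_obj T)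
      (AlgSp.IsAlgSpace.yon_obj U) sq) (AlgSp.IsAlgSpace.yon_obj T) _ _ _ _ sq.flip ((hP.yon_iff h).2 H)⟩

end NiceP

end K742
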