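import Mathlib.Topology.NoetherianSpace
import Mathlib.Topology.Sober
import Mathlib.AlgebraicGeometry.Noetherian

/-!
# Topology: images of locally Noetherian, quasi-sober spaces under open continuous surjections (helper742)
-/

set_option autoImplicit false

open TopologicalSpace Topology AlgebraicGeometry

namespace K742.Top

variable {U : Type*} {X : Type*} [TopologicalSpace U] [TopologicalSpace X]

/-- The image of a Noetherian subspace under a continuous map is Noetherian. -/
theorem noetherianSpace_image {p : U → X} (hp : Continuous p) {W : Set U} (hW : NoetherianSpace W) :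
    NoetherianSpace (p '' W) := by
  rw [← Set.range_domRestrict]
  exact NoetherianSpace.range _ (hp.comp continuous_subtype_val)

/-- The target of an open continuous surjection from a locally Noetherian space is locally Noetherian. -/
theorem exists_noetherian_nhd {p : U → X} (hp : Continuous p) (ho : IsOpenMap p) (hs : Function.Surjective p)
    (hU : ∀ u : U, ∃ W : Set U, IsOpen W ∧ u ∈ W ∧ NoetherianSpace W) (x : X) :
    ∃ W : Set X, IsOpen W ∧ x ∈ W ∧ NoetherianSpace W := by
  obtain ⟨u, rfl⟩ := hs x
  obtain ⟨W, hW, hu, hn⟩ := hU u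
  exact ⟨p '' W, ho W hW, ⟨u, hu, rfl⟩, noetherianSpace_image hp hn⟩

/-- The target of an open continuous surjection from a locally Noetherian, quasi-sober space is quasi-sober. -/
theorem quasiSober_of_open_surj {p : U → X} (hp : Continuous p) (ho : IsOpenMap p) (hs : Function.Surjective p)
    (hU : ∀ u : U, ∃ W : Set U, IsOpen W ∧ u ∈ W ∧ NoetherianSpace W) [QuasiSober U] : QuasiSober X where
  sober := by
    intro Z hZ hZc
    obtain ⟨x, hx⟩ := hZ.nonempty
    obtain ⟨u, rfl⟩ := hs x
    obtain ⟨W, hW, hu, hn⟩ := hU u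
    have := hn
    have : QuasiSober W := hW.isOpenEmbedding_subtypeVal.quasiSober
    -- the trace of `Z` on the chart
    let q : W → X := fun w => p w.1
    have hq : Continuous q := hp.comp continuous_subtype_val
    have hT : IsClosed (q ⁻¹' Z) := hZc.preimage hq
    obtain ⟨I, hI, hIc, hIi, hIu⟩ := NoetherianSpace.exists_finite_set_isClosed_irreducible hT
    -- `Z` is covered by `(p '' W)ᶜ` and the closures of the images of the components
    have h0 : Z ⊆ closure (Z ∩ p '' W) :=
      subset_closure_inter_of_isPreirreducible_of_isOpen hZ.isPreirreducible (ho W hW) ⟨p u, hx, ⟨u, hu, rfl⟩⟩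
    have h1 : Z ∩ p '' W ⊆ ⋃ T ∈ I, closure (q '' T) := by
      rintro _ ⟨hz, ⟨w, hw, rfl⟩⟩
      have : (⟨w, hw⟩ : W) ∈ q ⁻¹' Z := hz
      rw [hIu] at this
      obtain ⟨T, hT, hwT⟩ := this
      exact Set.mem_biUnion hT (subset_closure ⟨⟨w, hw⟩, hwT, rfl⟩)
    have h2 : Z ⊆ ⋃ T ∈ I, closure (q '' T) :=
      h0.trans (closure_minimal h1 (hI.isClosed_biUnion fun T _ => isClosed_closure))
    have h3 : ∃ T ∈ I, Z ⊆ closure (q '' T) := by
      have := (isIrreducible_iff_sUnion_isClosed.1 hZ) (hI.image fun T => closure (q '' T)).toFinset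
        (by
          intro z hz
          rw [Set.Finite.mem_toFinset] at hz
          obtain ⟨T, -, rfl⟩ := hz
          exact isClosed_closure)
        (by
          rw [Set.Finite.coe_toFinset, Set.sUnion_image]
          exact h2)
      obtain ⟨z, hz, hz'⟩ := this
      rw [Set.Finite.mem_toFinset] at hz
      obtain ⟨T, hT, rfl⟩ := hz
      exact ⟨T, hT, hz'⟩
    obtain ⟨T, hTI, hT2⟩ := h3
    obtain ⟨w, hw⟩ := QuasiSober.sober (hIi T hTI) (hIc T hTI)
    refine ⟨q w, ?_⟩
    have h4 : q w ∈ Z := by
      have : w ∈ q ⁻¹' Z := by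
        rw [hIu]
        exact ⟨T, hTI, hw.mem⟩
      exact this
    rw [isGenericPoint_def]
    refine subset_antisymm (closure_minimal (Set.singleton_subset_iff.2 h4) hZc) (hT2.trans ?_)
    refine closure_minimal ?_ isClosed_closure
    have h5 : T ⊆ closure {w} := hw.def.ge
    calc q '' T ⊆ q '' closure {w} := Set.image_mono h5
      _ ⊆ closure (q '' {w}) := image_closure_subset_closure_image hq
      _ = closure {q w} := by rw [Set.image_singleton]

/-- Points of a locally Noetherian scheme have Noetherian open neighbourhoods. -/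
theorem exists_noetherian_nhd_scheme (T : AlgebraicGeometry.Scheme) [AlgebraicGeometry.IsLocallyNoetherian T] (t : T) :
    ∃ W : Set T, IsOpen W ∧ t ∈ W ∧ NoetherianSpace W := by
  obtain ⟨W, hW, ht, -⟩ := AlgebraicGeometry.exists_isAffineOpen_mem_and_subset (U := (⊤ : T.Opens)) (x := t) trivial
  refine ⟨W, W.2, ht, ?_⟩
  have : IsNoetherianRing Γ(T, W) := AlgebraicGeometry.IsLocallyNoetherian.component_noetherian ⟨W, hW⟩
  exact AlgebraicGeometry.noetherianSpace_of_isAffineOpen W hW

end K742.Top
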