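import Groth.Agent.AlgSt.K735.Top
import Groth.Agent.AlgSt.K742.Top

/-!
# The space of points of a locally Noetherian algebraic stack (helper742)
-/

set_option autoImplicit false
set_option backward.isDefEq.respectTransparency false
set_option backward.isDefEq.respectTransparency.types false

universe v₂ u₂ v u

open CategoryTheory CategoryTheory.Limits AlgebraicGeometry Opposite TopologicalSpace

namespace K742.Noeth

variable {S : Scheme.{u}} {𝒳 : BasedCategory.{v₂, u₂} (Over S)} {K : Precoverage Scheme.{u}}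

/-- A surjective smooth atlas of an algebraic stack is continuous, open and surjective on points. -/
theorem ofChart_of_smooth_surjective (h𝒳 : AlgSt.IsAlgStack K 𝒳) {V : Over S} (v : FibCat.overCat V ⥤ᵇ 𝒳)
    (h1 : AlgSt.RepByAlgSpWith (AlgSp.LocP @Smooth) v) (h2 : AlgSt.RepByAlgSpWith AlgSp.IsSurjectiveMor v) :
    Continuous (AlgSt.Points.ofChart v) ∧ IsOpenMap (AlgSt.Points.ofChart v) ∧
      Function.Surjective (AlgSt.Points.ofChart v) := by
  refine ⟨K735.Top.chartCont_of_isAlgStack h𝒳 V v, ?_, ?_⟩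
  · exact K735.Top.isOpenMap_ofChart v (K735.Top.isOpenMap_map K735.Top.isOpenMap_of_smooth h𝒳.isStack.1
      (K735.Fp.isFibGrpd_overCat V) (K735.Top.chartCont_overCat V) h1)
  · rw [← K735.PtsSp.surjective_map_iff_surjective_ofChart]
    exact K735.Top.surjective_of_repByAlgSpWith h𝒳.isStack.1 (K735.Fp.isFibGrpd_overCat V) h2

/-- The space of points of a locally Noetherian algebraic stack is locally Noetherian. -/
theorem exists_noetherian_nhd (h𝒳 : AlgSt.IsAlgStack K 𝒳)
    (hN : AlgSt.SmoothLocally (fun T ↦ IsLocallyNoetherian T) 𝒳) (x : AlgSt.Points 𝒳) :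
    ∃ U : Set (AlgSt.Points 𝒳), IsOpen U ∧ x ∈ U ∧ NoetherianSpace U := by
  obtain ⟨V, v, h1, h2⟩ := h𝒳.atlas
  obtain ⟨hc, ho, hs⟩ := ofChart_of_smooth_surjective h𝒳 v h1 h2
  have : IsLocallyNoetherian V.left := hN V v h1
  exact K742.Top.exists_noetherian_nhd hc ho hs (K742.Top.exists_noetherian_nhd_scheme V.left) x

/-- The space of points of a locally Noetherian algebraic stack is quasi-sober. -/
theorem quasiSober (h𝒳 : AlgSt.IsAlgStack K 𝒳)
    (hN : AlgSt.SmoothLocally (fun T ↦ IsLocallyNoetherian T) 𝒳) : QuasiSober (AlgSt.Points 𝒳) := by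
  obtain ⟨V, v, h1, h2⟩ := h𝒳.atlas
  obtain ⟨hc, ho, hs⟩ := ofChart_of_smooth_surjective h𝒳 v h1 h2
  have : IsLocallyNoetherian V.left := hN V v h1
  exact K742.Top.quasiSober_of_open_surj hc ho hs (K742.Top.exists_noetherian_nhd_scheme V.left)

/-- The space of points of a Noetherian algebraic stack is Noetherian. -/
theorem noetherianSpace (h𝒳 : AlgSt.IsAlgStack K 𝒳) (hq : AlgSt.IsQuasiCompact 𝒳)
    (hN : AlgSt.SmoothLocally (fun T ↦ IsLocallyNoetherian T) 𝒳) : NoetherianSpace (AlgSt.Points 𝒳) := by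
  obtain ⟨V, v, hV, h1, h2⟩ := hq
  obtain ⟨hc, ho, hs⟩ := ofChart_of_smooth_surjective h𝒳 v h1 h2
  have : IsLocallyNoetherian V.left := hN V v h1
  have : IsNoetherianRing Γ(V.left, ⊤) := IsLocallyNoetherian.component_noetherian ⟨⊤, isAffineOpen_top V.left⟩
  have : NoetherianSpace V.left := noetherianSpace_of_isAffine
  exact noetherianSpace_of_surjective _ hc hs

end K742.Noeth
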