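import Groth.Agent.AlgSt.K742.Pt

/-!
# The slice `(Sch/U)` : fibred in groupoids, equivalent to `ofSch U`; functors between slices (helper742)
-/

set_option autoImplicit false
set_option backward.isDefEq.respectTransparency false
set_option backward.isDefEq.respectTransparency.types false

universe w₁ v₁ w₂ v₂ w₃ v₃ w₄ v₄ w v u

open CategoryTheory CategoryTheory.Limits AlgebraicGeometry Opposite FibCat

namespace K742.Over

variable {S : Scheme.{u}}

/-- `ofSch U ⟶ (Sch/U)` is an equivalence over `(Sch/S)`. -/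
theorem isEquivOver_toOverCat (U : CategoryTheory.Over S) : FibCat.IsEquivOver (AlgSt.toOverCat U) :=
  ⟨AlgSt.ofOverCat U, ⟨Iso.refl _⟩, ⟨Iso.refl _⟩⟩

theorem isFibGrpd_overCat (U : CategoryTheory.Over S) : FibCat.IsFibGrpd (FibCat.overCat U).p where
  exists_lift := fun {x} {V} f => by
    let ψ : (CategoryTheory.Over.mk (f ≫ x.hom) : CategoryTheory.Over U) ⟶ x := CategoryTheory.Over.homMk f rfl
    exact ⟨_, ψ, IsHomLift.map (CategoryTheory.Over.forget U) ψ⟩
  isStronglyCartesian := fun {y x} φ =>
    { universal_property' := fun {a'} g φ' hφ' => by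
        have hg : g ≫ φ.left = φ'.left :=
          @IsHomLift.eq_of_isHomLift _ _ _ _ (CategoryTheory.Over.forget U) _ _
            (g ≫ (CategoryTheory.Over.forget U).map φ) φ' hφ'
        have hw : g ≫ y.hom = a'.hom := by
          rw [← CategoryTheory.Over.w φ, ← Category.assoc, hg, CategoryTheory.Over.w φ']
        let χ : a' ⟶ y := CategoryTheory.Over.homMk g hw
        refine ⟨χ, ⟨IsHomLift.map (CategoryTheory.Over.forget U) χ, CategoryTheory.Over.OverMorphism.ext hg⟩, ?_⟩
        · rintro χ' ⟨hχ', -⟩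
          exact CategoryTheory.Over.OverMorphism.ext
            (@IsHomLift.eq_of_isHomLift _ _ _ _ (CategoryTheory.Over.forget U) _ _ g χ' hχ').symm }

theorem repByAlgSp_overCat (U : CategoryTheory.Over S) : AlgSt.RepByAlgSp (FibCat.overCat U) :=
  ⟨(AlgSp.ofScheme S).obj U, AlgSt.toOverCat U, isEquivOver_toOverCat U⟩

end K742.Over
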