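import Groth.Prelude.Def_AlgSt4

/-!
# Elementary lemmas: surjectivity on points, functors essentially surjective over the base, pasting functors
between 2-fibre products (helper742)
-/

set_option autoImplicit false
set_option backward.isDefEq.respectTransparency false
set_option backward.isDefEq.respectTransparency.types false

universe w₁ v₁ w₂ v₂ w₃ v₃ w₄ v₄ w v u

open CategoryTheory CategoryTheory.Limits AlgebraicGeometry Opposite FibCat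

namespace K742.Pt

variable {S : Scheme.{u}}

section Surj

variable {𝒳 : BasedCategory.{v₁, w₁} (Over S)} {𝒴 : BasedCategory.{v₂, w₂} (Over S)}
  {𝒵 : BasedCategory.{v₃, w₃} (Over S)}

/-- A functor over the base hitting every object up to a morphism whose source lies over the same object. -/
def EssSurjOver (F : 𝒳 ⥤ᵇ 𝒴) : Prop :=
  ∀ y : 𝒴.obj, ∃ x : 𝒳.obj, 𝒳.p.obj x = 𝒴.p.obj y ∧ Nonempty (F.obj x ⟶ y)

theorem EssSurjOver.isSurjective {F : 𝒳 ⥤ᵇ 𝒴} (h : EssSurjOver F) : AlgSt.IsSurjective F := by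
  intro q
  obtain ⟨q, rfl⟩ := AlgSt.Points.mk_surjective q
  obtain ⟨x, hx, ⟨φ⟩⟩ := h q.obj
  refine ⟨AlgSt.Points.mk { K := q.K, str := q.str, obj := x, lies := hx.trans q.lies }, ?_⟩
  exact AlgSt.Points.sound ⟨AlgSt.FPt.map F { K := q.K, str := q.str, obj := x, lies := hx.trans q.lies }, 𝟙 _, φ, trivial⟩

theorem points_map_comp (F : 𝒳 ⥤ᵇ 𝒴) (G : 𝒴 ⥤ᵇ 𝒵) (p : AlgSt.Points 𝒳) :
    AlgSt.Points.map (BasedFunctor.comp F G) p = AlgSt.Points.map G (AlgSt.Points.map F p) := by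
  obtain ⟨p, rfl⟩ := AlgSt.Points.mk_surjective p
  rfl

theorem points_map_id (p : AlgSt.Points 𝒳) : AlgSt.Points.map (BasedFunctor.id 𝒳) p = p := by
  obtain ⟨p, rfl⟩ := AlgSt.Points.mk_surjective p
  rfl

theorem points_map_congr {F G : 𝒳 ⥤ᵇ 𝒴} (e : F ≅ G) (p : AlgSt.Points 𝒳) :
    AlgSt.Points.map F p = AlgSt.Points.map G p := by
  obtain ⟨p, rfl⟩ := AlgSt.Points.mk_surjective p
  exact AlgSt.Points.sound ⟨p.map F, 𝟙 _, e.hom.toNatTrans.app p.obj, trivial⟩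

theorem isSurjective_comp {F : 𝒳 ⥤ᵇ 𝒴} {G : 𝒴 ⥤ᵇ 𝒵} (hF : AlgSt.IsSurjective F) (hG : AlgSt.IsSurjective G) :
    AlgSt.IsSurjective (BasedFunctor.comp F G) := by
  intro z
  obtain ⟨y, rfl⟩ := hG z
  obtain ⟨x, rfl⟩ := hF y
  exact ⟨x, points_map_comp F G x⟩

theorem isSurjective_of_comp {F : 𝒳 ⥤ᵇ 𝒴} {G : 𝒴 ⥤ᵇ 𝒵} (h : AlgSt.IsSurjective (BasedFunctor.comp F G)) :
    AlgSt.IsSurjective G := by
  intro z
  obtain ⟨x, rfl⟩ := h z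
  exact ⟨AlgSt.Points.map F x, (points_map_comp F G x).symm⟩

theorem isSurjective_congr {F G : 𝒳 ⥤ᵇ 𝒴} (e : F ≅ G) (h : AlgSt.IsSurjective F) : AlgSt.IsSurjective G := by
  intro y
  obtain ⟨x, rfl⟩ := h y
  exact ⟨x, (points_map_congr e x).symm⟩

theorem isSurjective_of_isEquivOver {F : 𝒳 ⥤ᵇ 𝒴} (h : FibCat.IsEquivOver F) : AlgSt.IsSurjective F := by
  obtain ⟨G, -, ⟨e⟩⟩ := h
  intro y
  refine ⟨AlgSt.Points.map G y, ?_⟩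
  rw [← points_map_comp, points_map_congr e, points_map_id]

/-- If every object in the image of a surjective functor `G` receives a morphism from the image of `F` (over an
identity), then `F` is surjective. -/
theorem isSurjective_of_lift (F : 𝒳 ⥤ᵇ 𝒴) (G : 𝒵 ⥤ᵇ 𝒴) (hG : AlgSt.IsSurjective G)
    (h : ∀ c : 𝒵.obj, ∃ a : 𝒳.obj, 𝒳.p.obj a = 𝒵.p.obj c ∧ Nonempty (F.obj a ⟶ G.obj c)) :
    AlgSt.IsSurjective F := by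
  intro q
  obtain ⟨r, rfl⟩ := hG q
  obtain ⟨r, rfl⟩ := AlgSt.Points.mk_surjective r
  obtain ⟨x, hx, ⟨φ⟩⟩ := h r.obj
  refine ⟨AlgSt.Points.mk { K := r.K, str := r.str, obj := x, lies := hx.trans r.lies }, ?_⟩
  exact AlgSt.Points.sound ⟨AlgSt.FPt.map F { K := r.K, str := r.str, obj := x, lies := hx.trans r.lies }, 𝟙 _, φ, trivial⟩

end Surj

section Fp

variable {𝒳 : BasedCategory.{v₁, w₁} (Over S)} {𝒴 : BasedCategory.{v₂, w₂} (Over S)}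
  {𝒵 : BasedCategory.{v₃, w₃} (Over S)} {𝒲 : BasedCategory.{v₄, w₄} (Over S)}

/-- Objects of a 2-fibre product. -/
def mkFp (F : 𝒳 ⥤ᵇ 𝒵) (G : 𝒴 ⥤ᵇ 𝒵) (x : 𝒳.obj) (y : 𝒴.obj) (φ : F.obj x ≅ G.obj y)
    (h : 𝒵.p.IsHomLift (𝟙 (𝒳.p.obj x)) φ.hom) : (fp F G).obj :=
  ⟨⟨x, y, φ⟩, h⟩

/-- Morphisms of a 2-fibre product. -/
def homFp {F : 𝒳 ⥤ᵇ 𝒵} {G : 𝒴 ⥤ᵇ 𝒵} {a b : (fp F G).obj} (s : a.obj.fst ⟶ b.obj.fst) (t : a.obj.snd ⟶ b.obj.snd)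
    (w : F.map s ≫ b.obj.iso.hom = a.obj.iso.hom ≫ G.map t) : a ⟶ b :=
  ObjectProperty.homMk ⟨s, t, w⟩

theorem p_snd {F : 𝒳 ⥤ᵇ 𝒵} {G : 𝒴 ⥤ᵇ 𝒵} (a : (fp F G).obj) : 𝒴.p.obj a.obj.snd = 𝒳.p.obj a.obj.fst :=
  (fpSnd F G).w_obj a

/-- `𝒲 ×_𝒴 𝒳 ⟶ 𝒲 ×_𝒵 (𝒵 ×_𝒴 𝒳)`. -/
def paste (t : 𝒲 ⥤ᵇ 𝒵) (g : 𝒵 ⥤ᵇ 𝒴) (f : 𝒳 ⥤ᵇ 𝒴) :
    fp (BasedFunctor.comp t g) f ⥤ᵇ fp t (fpFst g f) :=
  fpLift (fpFst (BasedFunctor.comp t g) f)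
    (fpLift (BasedFunctor.comp (fpFst (BasedFunctor.comp t g) f) t) (fpSnd (BasedFunctor.comp t g) f)
      (fpIso (BasedFunctor.comp t g) f)) (Iso.refl _)

theorem essSurjOver_paste (t : 𝒲 ⥤ᵇ 𝒵) (g : 𝒵 ⥤ᵇ 𝒴) (f : 𝒳 ⥤ᵇ 𝒴) : EssSurjOver (paste t g f) := by
  intro y
  have h1 : 𝒵.p.IsHomLift (𝟙 (𝒲.p.obj y.obj.fst)) y.obj.iso.hom := y.property
  have h2 : 𝒴.p.IsHomLift (𝟙 (𝒵.p.obj y.obj.snd.obj.fst)) y.obj.snd.obj.iso.hom := y.obj.snd.property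
  have hp : 𝒵.p.obj y.obj.snd.obj.fst = 𝒲.p.obj y.obj.fst :=
    IsHomLift.codomain_eq 𝒵.p (𝟙 (𝒲.p.obj y.obj.fst)) y.obj.iso.hom
  rw [hp] at h2
  let φ : g.obj (t.obj y.obj.fst) ≅ f.obj y.obj.snd.obj.snd := g.mapIso y.obj.iso ≪≫ y.obj.snd.obj.iso
  have hφ : 𝒴.p.IsHomLift (𝟙 (𝒲.p.obj y.obj.fst)) φ.hom := by
    change 𝒴.p.IsHomLift (𝟙 (𝒲.p.obj y.obj.fst)) (g.map y.obj.iso.hom ≫ y.obj.snd.obj.iso.hom)
    infer_instance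
  refine ⟨mkFp (BasedFunctor.comp t g) f y.obj.fst y.obj.snd.obj.snd φ hφ, rfl, ⟨?_⟩⟩
  refine homFp (𝟙 _) (homFp y.obj.iso.hom (𝟙 _) ?_) ?_
  · change g.map y.obj.iso.hom ≫ y.obj.snd.obj.iso.hom = (g.map y.obj.iso.hom ≫ y.obj.snd.obj.iso.hom) ≫ f.map (𝟙 _)
    rw [f.toFunctor.map_id, Category.comp_id]
  · change t.map (𝟙 _) ≫ y.obj.iso.hom = 𝟙 _ ≫ y.obj.iso.hom
    rw [t.toFunctor.map_id]

/-- `𝒲 ×_𝒵 𝒴 ×_𝒴 𝒳 ⟶ 𝒲 ×_𝒵 𝒳`. -/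
def pasteComp (h : 𝒲 ⥤ᵇ 𝒵) (g : 𝒴 ⥤ᵇ 𝒵) (f : 𝒳 ⥤ᵇ 𝒴) :
    fp (fpSnd h g) f ⥤ᵇ fp h (BasedFunctor.comp f g) :=
  fpLift (BasedFunctor.comp (fpFst (fpSnd h g) f) (fpFst h g)) (fpSnd (fpSnd h g) f)
    ((BasedNatIso.mkNatIso (NatIso.ofComponents (fun x => x.obj.fst.obj.iso ≪≫ g.mapIso x.obj.iso)
        (fun {x y} φ => by
          have e1 : h.map φ.hom.fst.hom.fst ≫ y.obj.fst.obj.iso.hom = x.obj.fst.obj.iso.hom ≫ g.map φ.hom.fst.hom.snd :=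
            φ.hom.fst.hom.w
          have e2 : φ.hom.fst.hom.snd ≫ y.obj.iso.hom = x.obj.iso.hom ≫ f.map φ.hom.snd := φ.hom.w
          change h.map φ.hom.fst.hom.fst ≫ y.obj.fst.obj.iso.hom ≫ g.map y.obj.iso.hom =
            (x.obj.fst.obj.iso.hom ≫ g.map x.obj.iso.hom) ≫ g.map (f.map φ.hom.snd)
          rw [← Category.assoc, e1, Category.assoc, Category.assoc, ← g.toFunctor.map_comp, ← g.toFunctor.map_comp, e2]))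
      (fun x => by
        have h1 : 𝒵.p.IsHomLift (𝟙 (𝒲.p.obj x.obj.fst.obj.fst)) x.obj.fst.obj.iso.hom := x.obj.fst.property
        have h2 : 𝒴.p.IsHomLift (𝟙 (𝒲.p.obj x.obj.fst.obj.fst)) x.obj.iso.hom := x.property
        change 𝒵.p.IsHomLift (𝟙 (𝒲.p.obj x.obj.fst.obj.fst)) (x.obj.fst.obj.iso.hom ≫ g.map x.obj.iso.hom)
        infer_instance)))

theorem essSurjOver_pasteComp (h : 𝒲 ⥤ᵇ 𝒵) (g : 𝒴 ⥤ᵇ 𝒵) (f : 𝒳 ⥤ᵇ 𝒴) : EssSurjOver (pasteComp h g f) := by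
  intro y
  have h1 : 𝒵.p.IsHomLift (𝟙 (𝒲.p.obj y.obj.fst)) y.obj.iso.hom := y.property
  let a : (fp h g).obj := mkFp h g y.obj.fst (f.obj y.obj.snd) y.obj.iso h1
  refine ⟨mkFp (fpSnd h g) f a y.obj.snd (Iso.refl _) ?_, rfl, ⟨homFp (𝟙 _) (𝟙 _) ?_⟩⟩
  · change 𝒴.p.IsHomLift (𝟙 (𝒲.p.obj y.obj.fst)) (𝟙 (f.obj y.obj.snd))
    refine IsHomLift.id ?_
    rw [f.w_obj]
    exact p_snd y
  · change h.map (𝟙 _) ≫ y.obj.iso.hom = (y.obj.iso.hom ≫ g.map (𝟙 (f.obj y.obj.snd))) ≫ g.map (f.map (𝟙 _))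
    rw [h.toFunctor.map_id, g.toFunctor.map_id, f.toFunctor.map_id, g.toFunctor.map_id, Category.id_comp, Category.comp_id]
    exact (Category.comp_id _).symm

end Fp

end K742.Pt
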