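import Groth.Agent.AlgSt.K742.Noeth
import Groth.Agent.AlgSt.K742.SmComp
import Mathlib.AlgebraicGeometry.Morphisms.Etale

/-!
# Quasi-compactness of an algebraic stack is compactness of its space of points (helper742)
-/

set_option autoImplicit false
set_option backward.isDefEq.respectTransparency false
set_option backward.isDefEq.respectTransparency.types false

universe v₂ u₂ v u

open CategoryTheory CategoryTheory.Limits AlgebraicGeometry Opposite
open K735.Fib K735.Fp K735.Rep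

namespace K742.QCTop

/-- An open surjection from a scheme onto a compact space is refined by an affine scheme. -/
theorem exists_affine_refinement {V : Scheme.{u}} {X : Type*} [TopologicalSpace X] [CompactSpace X] (f : V → X)
    (hf : IsOpenMap f) (hs : Function.Surjective f) :
    ∃ (W : Scheme.{u}) (g : W ⟶ V), IsAffine W ∧ Etale g ∧ Function.Surjective (f ∘ g) := by
  obtain ⟨s, hs⟩ := isCompact_univ.elim_finite_subcover
    (fun i : V.affineCover.I₀ => f '' (V.affineCover.f i).opensRange)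
    (fun i => hf _ (V.affineCover.f i).opensRange.isOpen) (fun x _ => by
      obtain ⟨v, rfl⟩ := hs x
      obtain ⟨i, y, hy⟩ := V.affineCover.exists_eq v
      exact Set.mem_iUnion.2 ⟨i, v, ⟨y, hy⟩, rfl⟩)
  refine ⟨∐ fun i : s => V.affineCover.X i.1, Sigma.desc fun i : s => V.affineCover.f i.1, inferInstance,
    ?_, fun x => ?_⟩
  · have : IsZariskiLocalAtSource (@Etale.{u}) := HasRingHomProperty.instIsZariskiLocalAtSource
    rw [IsZariskiLocalAtSource.iff_of_openCover (P := @Etale) (sigmaOpenCover _)]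
    have key : ∀ i : s, Etale (Sigma.ι (fun i : s => V.affineCover.X i.1) i ≫
        Sigma.desc fun i : s => V.affineCover.f i.1) := fun i => by
      rw [Sigma.ι_desc]
      infer_instance
    exact key
  · obtain ⟨i, hi, hx⟩ := Set.mem_iUnion₂.1 (hs (Set.mem_univ x))
    obtain ⟨v, ⟨y, hy⟩, rfl⟩ := hx
    refine ⟨Sigma.ι (fun i : s => V.affineCover.X i.1) ⟨i, hi⟩ y, ?_⟩
    rw [Function.comp_apply, ← Scheme.Hom.comp_apply, Sigma.ι_desc, hy]

variable {S : Scheme.{u}}

/-- `overMap g` is smooth when `g` is etale. -/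
theorem smooth_overMap {U V : Over S} (g : U ⟶ V) (hg : Etale g.left) :
    AlgSt.RepByAlgSpWith (AlgSp.LocP @Smooth) (AlgSt.overMap g) := by
  have h1 : AlgSp.RepWith @Etale ((AlgSp.yon S).map g) := (AlgSp.repWith_yon_map_iff _ g).2 hg
  have h2 := K735.Top.repByAlgSpWith_smooth_chart h1
  exact repByAlgSpWith_of_sq _ (K735.SpFp.chart ((AlgSp.yon S).map g)) (AlgSt.overMap g)
    (BasedFunctor.id _) (AlgSt.ofOverCat V) isEquivOver_id (isEquivOver_ofOverCat V)
    (eqToIso (by
      change BasedFunctor.comp (AlgSt.overMap g) (AlgSt.ofOverCat V) = _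
      rfl)) h2

variable {𝒳 : AlgSt.Cat S} {K : Precoverage Scheme.{u}}

theorem compactSpace_of_isQuasiCompact (h𝒳 : AlgSt.IsAlgStack K 𝒳) (h : AlgSt.IsQuasiCompact 𝒳) :
    CompactSpace (AlgSt.Points 𝒳) := by
  obtain ⟨V, v, hV, h1, h2⟩ := h
  obtain ⟨hc, ho, hs⟩ := K742.Noeth.ofChart_of_smooth_surjective h𝒳 v h1 h2
  have : CompactSpace V.left := inferInstance
  exact ⟨by rw [← hs.range_eq]; exact isCompact_range hc⟩

theorem isQuasiCompact_of_compactSpace (h𝒳 : AlgSt.IsAlgStack K 𝒳) (h : CompactSpace (AlgSt.Points 𝒳)) :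
    AlgSt.IsQuasiCompact 𝒳 := by
  obtain ⟨V, v, h1, h2⟩ := h𝒳.atlas
  obtain ⟨hc, ho, hs⟩ := K742.Noeth.ofChart_of_smooth_surjective h𝒳 v h1 h2
  obtain ⟨W, g, hW, hg, hgs⟩ := exists_affine_refinement _ ho hs
  let W' : Over S := Over.mk (g ≫ V.hom)
  let g' : W' ⟶ V := Over.homMk g rfl
  have h3 : AlgSt.RepByAlgSpWith (AlgSp.LocP @Smooth) (BasedFunctor.comp (AlgSt.overMap g') v) :=
    K742.SmComp.smooth_comp (isFibGrpd_overCat W') (isFibGrpd_overCat V) _ _ (smooth_overMap g' hg) h1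
  refine ⟨W', BasedFunctor.comp (AlgSt.overMap g') v, hW, h3, ?_⟩
  refine (K735.Top.repByAlgSpWith_surjective_iff h𝒳.isStack.1 (isFibGrpd_overCat W') (repByAlgSp1_of_with h3)).1
    ((K735.PtsSp.surjective_map_iff_surjective_ofChart _).2 fun x => ?_)
  obtain ⟨w, hw⟩ := hgs x
  exact ⟨w, (K735.PtsSp.ofChart_overMap g' v w).trans hw⟩

/-- Compactness of the space of points passes to the target of a surjection. -/
theorem compactSpace_of_surjective {𝒰 : AlgSt.Cat S} (h𝒳 : AlgSt.IsAlgStack K 𝒳) (f : 𝒰 ⥤ᵇ 𝒳)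
    (hf : Function.Surjective (AlgSt.Points.map f)) (h : CompactSpace (AlgSt.Points 𝒰)) :
    CompactSpace (AlgSt.Points 𝒳) := by
  have hc : Continuous (AlgSt.Points.map f) :=
    K735.Top.continuous_map (K735.Top.chartCont_of_isAlgStack h𝒳) f
  exact ⟨by rw [← hf.range_eq]; exact isCompact_range hc⟩

/-- S12858. -/
theorem isQuasiCompact_of_isSurjective {𝒰 : AlgSt.Cat S} (h𝒰 : AlgSt.IsAlgStack K 𝒰) (h𝒳 : AlgSt.IsAlgStack K 𝒳)
    (f : 𝒰 ⥤ᵇ 𝒳) (hf : AlgSt.IsSurjective f) (h : AlgSt.IsQuasiCompact 𝒰) : AlgSt.IsQuasiCompact 𝒳 :=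
  isQuasiCompact_of_compactSpace h𝒳 (compactSpace_of_surjective h𝒳 f hf (compactSpace_of_isQuasiCompact h𝒰 h))

end K742.QCTop
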