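import Groth.Agent.AlgSt.K742.Over
import Groth.Agent.AlgSt.K742.QCTop
import Groth.Agent.AlgSt.K734.FpAlg
import Groth.Agent.AlgSt.K744.AlgOver

/-!
# Quasi-compact morphisms of algebraic stacks: affine test, base change, composition (helper742)
-/

set_option autoImplicit false
set_option backward.isDefEq.respectTransparency false
set_option backward.isDefEq.respectTransparency.types false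

universe u

open CategoryTheory CategoryTheory.Limits AlgebraicGeometry Opposite FibCat
open K742.Pt K742.Over K742.QCTop

namespace K742.QC

variable {S : Scheme.{u}} {𝒳 𝒴 𝒵 𝒲 : AlgSt.Cat S}

local notation "Alg" => AlgSt.IsAlgStack Scheme.fppfPrecoverage

/-- S12763 with an algebraic stack as target. -/
theorem isAlgStack_fp (h𝒳 : Alg 𝒳) (h𝒴 : Alg 𝒴) (h𝒵 : Alg 𝒵) (f : 𝒳 ⥤ᵇ 𝒵) (g : 𝒴 ⥤ᵇ 𝒵) : Alg (FibCat.fp f g) :=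
  K734.Rep.isAlgStack_fp (K734.Rep.isPrestack_of_isStack h𝒵.isStack) h𝒵.diag h𝒳 h𝒴 f g

theorem isAlgStack_overCat (U : CategoryTheory.Over S) : Alg (FibCat.overCat U) :=
  K744.AlgOver.isAlgStack_overCat U

theorem isQuasiCompact_of_essSurj (h𝒳 : Alg 𝒳) (h𝒴 : Alg 𝒴) (F : 𝒳 ⥤ᵇ 𝒴) (hF : EssSurjOver F)
    (h : AlgSt.IsQuasiCompact 𝒳) : AlgSt.IsQuasiCompact 𝒴 :=
  isQuasiCompact_of_isSurjective h𝒳 h𝒴 F hF.isSurjective h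

theorem isQuasiCompact_of_isEquivOver (h𝒳 : Alg 𝒳) (h𝒴 : Alg 𝒴) (F : 𝒳 ⥤ᵇ 𝒴) (hF : FibCat.IsEquivOver F)
    (h : AlgSt.IsQuasiCompact 𝒳) : AlgSt.IsQuasiCompact 𝒴 :=
  isQuasiCompact_of_isSurjective h𝒳 h𝒴 F (isSurjective_of_isEquivOver hF) h

/-- Base change along a composite: if `(t ≫ g)^* f` is quasi-compact so is `t^*(g^* f)`. -/
theorem isQuasiCompact_fp_fpFst (h𝒳 : Alg 𝒳) (h𝒴 : Alg 𝒴) (h𝒵 : Alg 𝒵) (h𝒲 : Alg 𝒲)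
    (t : 𝒲 ⥤ᵇ 𝒵) (g : 𝒵 ⥤ᵇ 𝒴) (f : 𝒳 ⥤ᵇ 𝒴) (h : AlgSt.IsQuasiCompact (fp (BasedFunctor.comp t g) f)) :
    AlgSt.IsQuasiCompact (fp t (fpFst g f)) :=
  isQuasiCompact_of_essSurj (isAlgStack_fp h𝒲 h𝒳 h𝒴 _ _)
    (isAlgStack_fp h𝒲 (isAlgStack_fp h𝒵 h𝒳 h𝒴 _ _) h𝒵 _ _) (paste t g f) (essSurjOver_paste t g f) h

/-- S12982. -/
theorem isQuasiCompactMor_fpFst (h𝒳 : Alg 𝒳) (h𝒴 : Alg 𝒴) (h𝒵 : Alg 𝒵) (f : 𝒳 ⥤ᵇ 𝒴) (g : 𝒵 ⥤ᵇ 𝒴)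
    (hf : AlgSt.IsQuasiCompactMor Scheme.fppfPrecoverage f) :
    AlgSt.IsQuasiCompactMor Scheme.fppfPrecoverage (fpFst g f) := fun 𝒲 h𝒲 hqc t =>
  isQuasiCompact_fp_fpFst h𝒳 h𝒴 h𝒵 h𝒲 t g f (hf 𝒲 h𝒲 hqc _)

/-- S12983. -/
theorem isQuasiCompactMor_comp (h𝒳 : Alg 𝒳) (h𝒴 : Alg 𝒴) (h𝒵 : Alg 𝒵) (f : 𝒳 ⥤ᵇ 𝒴) (g : 𝒴 ⥤ᵇ 𝒵)
    (hf : AlgSt.IsQuasiCompactMor Scheme.fppfPrecoverage f)
    (hg : AlgSt.IsQuasiCompactMor Scheme.fppfPrecoverage g) :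
    AlgSt.IsQuasiCompactMor Scheme.fppfPrecoverage (BasedFunctor.comp f g) := fun 𝒲 h𝒲 hqc h =>
  have h1 : Alg (fp h g) := isAlgStack_fp h𝒲 h𝒴 h𝒵 h g
  isQuasiCompact_of_essSurj (isAlgStack_fp h1 h𝒳 h𝒴 _ _) (isAlgStack_fp h𝒲 h𝒳 h𝒵 _ _)
    (pasteComp h g f) (essSurjOver_pasteComp h g f) (hf _ h1 (hg 𝒲 h𝒲 hqc h) _)

theorem isSurjective_of_repByAlgSpWith (h𝒳 : Alg 𝒳) (h𝒴 : Alg 𝒴) {f : 𝒳 ⥤ᵇ 𝒴}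
    (h : AlgSt.RepByAlgSpWith AlgSp.IsSurjectiveMor f) : AlgSt.IsSurjective f :=
  K735.Top.surjective_of_repByAlgSpWith h𝒴.isStack.1 h𝒳.isStack.1 h

theorem isSurjective_fpSnd (h𝒳 : Alg 𝒳) (h𝒴 : Alg 𝒴) (h𝒵 : Alg 𝒵) (f : 𝒳 ⥤ᵇ 𝒴) (g : 𝒵 ⥤ᵇ 𝒴)
    (hg : AlgSt.IsSurjective g) : AlgSt.IsSurjective (fpSnd g f) := by
  intro x
  obtain ⟨z, hz⟩ := hg (AlgSt.Points.map f x)
  obtain ⟨w, -, hw⟩ := K735.Pts.exists_fp h𝒳.isStack.1 h𝒵.isStack.1 h𝒴.isStack.1 g f z x hz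
  exact ⟨w, hw⟩

/-- A 2-fibre product is quasi-compact when it is so after a surjective morphism to the first factor. -/
theorem isQuasiCompact_fp_of_isSurjective (h𝒳 : Alg 𝒳) (h𝒴 : Alg 𝒴) (h𝒵 : Alg 𝒵) (h𝒲 : Alg 𝒲)
    (t : 𝒲 ⥤ᵇ 𝒵) (ht : AlgSt.IsSurjective t) (g : 𝒵 ⥤ᵇ 𝒴) (f : 𝒳 ⥤ᵇ 𝒴)
    (h : AlgSt.IsQuasiCompact (fp (BasedFunctor.comp t g) f)) : AlgSt.IsQuasiCompact (fp g f) := by
  have h1 : Alg (fp g f) := isAlgStack_fp h𝒵 h𝒳 h𝒴 _ _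
  exact isQuasiCompact_of_isSurjective (isAlgStack_fp h𝒲 h1 h𝒵 _ _) h1
    (fpSnd t (fpFst g f)) (isSurjective_fpSnd h1 h𝒵 h𝒲 _ _ ht)
    (isQuasiCompact_fp_fpFst h𝒳 h𝒴 h𝒵 h𝒲 t g f h)

/-- Affine test for quasi-compactness of a morphism. -/
theorem isQuasiCompactMor_of_affine (h𝒳 : Alg 𝒳) (h𝒴 : Alg 𝒴) (f : 𝒳 ⥤ᵇ 𝒴)
    (h : ∀ (T : CategoryTheory.Over S), IsAffine T.left → ∀ y : FibCat.overCat T ⥤ᵇ 𝒴, AlgSt.IsQuasiCompact (fp y f)) :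
    AlgSt.IsQuasiCompactMor Scheme.fppfPrecoverage f := fun 𝒵 h𝒵 hqc g => by
  obtain ⟨T, t, hT, -, hts⟩ := hqc
  exact isQuasiCompact_fp_of_isSurjective h𝒳 h𝒴 h𝒵 (isAlgStack_overCat T) t
    (isSurjective_of_repByAlgSpWith (isAlgStack_overCat T) h𝒵 hts) g f (h T hT _)

/-- S12985. -/
theorem isQuasiCompactMor_of_isSurjective_of_triangle (h𝒳 : Alg 𝒳) (h𝒴 : Alg 𝒴) (h𝒵 : Alg 𝒵)
    (f : 𝒳 ⥤ᵇ 𝒴) (p : 𝒳 ⥤ᵇ 𝒵) (q : 𝒴 ⥤ᵇ 𝒵) (e : BasedFunctor.comp f q ≅ p) (hf : AlgSt.IsSurjective f)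
    (hp : AlgSt.IsQuasiCompactMor Scheme.fppfPrecoverage p) :
    AlgSt.IsQuasiCompactMor Scheme.fppfPrecoverage q := fun 𝒲 h𝒲 hqc h => by
  -- `𝒲 ×_𝒵 𝒳 ⟶ 𝒲 ×_𝒵 𝒴`
  have h1 : Alg (fp h q) := isAlgStack_fp h𝒲 h𝒴 h𝒵 h q
  have h2 : Alg (fp h p) := isAlgStack_fp h𝒲 h𝒳 h𝒵 h p
  have hqc' : AlgSt.IsQuasiCompact (fp h p) := hp 𝒲 h𝒲 hqc h
  let e' : BasedFunctor.comp (fpFst h p) h ≅ BasedFunctor.comp (BasedFunctor.comp (fpSnd h p) f) q :=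
    (fpIso h p) ≪≫ (show BasedFunctor.comp (fpSnd h p) p ≅ BasedFunctor.comp (fpSnd h p) (BasedFunctor.comp f q) from
      (Stk.restr (fpSnd h p) 𝒵).mapIso e.symm)
  let F : fp h p ⥤ᵇ fp h q := fpLift (fpFst h p) (BasedFunctor.comp (fpSnd h p) f) e'
  refine isQuasiCompact_of_isSurjective h2 h1 F ?_ hqc'
  refine isSurjective_of_lift F (fpFst (fpSnd h q) f) (K735.Pts.surjective_fpFst h𝒳.isStack.1 h1.isStack.1 h𝒴.isStack.1 (fpSnd h q) f hf) fun c => ?_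
  have i1 : 𝒵.p.IsHomLift (𝟙 (𝒲.p.obj c.obj.fst.obj.fst)) c.obj.fst.obj.iso.hom := c.obj.fst.property
  have i2 : 𝒴.p.IsHomLift (𝟙 (𝒲.p.obj c.obj.fst.obj.fst)) c.obj.iso.hom := c.property
  have hx : 𝒳.p.obj c.obj.snd = 𝒲.p.obj c.obj.fst.obj.fst := p_snd c
  let eapp : q.obj (f.obj c.obj.snd) ≅ p.obj c.obj.snd := ((BasedNatTrans.forgetful _ _).mapIso e).app c.obj.snd
  have i3 : 𝒵.p.IsHomLift (𝟙 (𝒲.p.obj c.obj.fst.obj.fst)) eapp.hom := BasedNatTrans.isHomLift e.hom hx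
  let φ : h.obj c.obj.fst.obj.fst ≅ p.obj c.obj.snd := c.obj.fst.obj.iso ≪≫ q.mapIso c.obj.iso ≪≫ eapp
  have hφ : 𝒵.p.IsHomLift (𝟙 (𝒲.p.obj c.obj.fst.obj.fst)) φ.hom := by
    change 𝒵.p.IsHomLift _ (c.obj.fst.obj.iso.hom ≫ q.map c.obj.iso.hom ≫ eapp.hom)
    infer_instance
  refine ⟨mkFp h p c.obj.fst.obj.fst c.obj.snd φ hφ, rfl, ⟨homFp (𝟙 _) c.obj.iso.inv ?_⟩⟩
  change h.map (𝟙 _) ≫ c.obj.fst.obj.iso.hom =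
    ((c.obj.fst.obj.iso.hom ≫ q.map c.obj.iso.hom ≫ eapp.hom) ≫ eapp.inv) ≫ q.map c.obj.iso.inv
  rw [h.toFunctor.map_id, Category.id_comp]
  simp only [Category.assoc, Iso.hom_inv_id_assoc]
  rw [← q.toFunctor.map_comp, Iso.hom_inv_id, q.toFunctor.map_id]
  exact (Category.comp_id _).symm

end K742.QC
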