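import Groth.Agent.AlgSt.K742.RepComp
import Groth.Agent.AlgSt.K735.Top

/-!
# Composition of squares of charts (helper742)

Given `f : 𝒳 ⟶ 𝒴`, `g : 𝒴 ⟶ 𝒵`, `y : 𝒰 ⟶ 𝒴`, `z : 𝒱 ⟶ 𝒵`, `b : 𝒰 ⟶ 𝒱` and `β : y ⋙ g ≅ b ⋙ z`, the functor
`m : 𝒳 ×_𝒴 𝒰 ⟶ 𝒳 ×_𝒵 𝒱` is a 2-cartesian base change of `fpLift y b β : 𝒰 ⟶ 𝒴 ×_𝒵 𝒱`.
-/

set_option autoImplicit false
set_option backward.isDefEq.respectTransparency false
set_option backward.isDefEq.respectTransparency.types false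

universe v₆ u₆ v₅ u₅ v₄ u₄ v₃ u₃ v₂ u₂ v u

open CategoryTheory CategoryTheory.Limits AlgebraicGeometry Opposite
open K735.Fib K735.Fp K735.Rep

namespace K742.Sq

section

variable {C : Type u} [Category.{v} C] {𝒳 : BasedCategory.{v₂, u₂} C} {𝒴 : BasedCategory.{v₃, u₃} C}
  {𝒵 : BasedCategory.{v₄, u₄} C} {𝒰 : BasedCategory.{v₅, u₅} C} {𝒱 : BasedCategory.{v₆, u₆} C}
  (f : 𝒳 ⥤ᵇ 𝒴) (g : 𝒴 ⥤ᵇ 𝒵) (y : 𝒰 ⥤ᵇ 𝒴) (z : 𝒱 ⥤ᵇ 𝒵) (b : 𝒰 ⥤ᵇ 𝒱)
  (β : BasedFunctor.comp y g ≅ BasedFunctor.comp b z)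

/-- The 2-isomorphism of the big square. -/
def bigIso : BasedFunctor.comp (FibCat.fpFst f y) (BasedFunctor.comp f g) ≅
    BasedFunctor.comp (BasedFunctor.comp (FibCat.fpSnd f y) b) z :=
  K743.BC.whiskerRightIso (FibCat.fpIso f y) g ≪≫ K743.BC.whiskerLeftIso (FibCat.fpSnd f y) β

/-- `𝒳 ×_𝒴 𝒰 ⟶ 𝒳 ×_𝒵 𝒱`. -/
def m : FibCat.fp f y ⥤ᵇ FibCat.fp (BasedFunctor.comp f g) z :=
  FibCat.fpLift (FibCat.fpFst f y) (BasedFunctor.comp (FibCat.fpSnd f y) b) (bigIso f g y z b β)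

/-- `𝒳 ×_𝒵 𝒱 ⟶ 𝒴 ×_𝒵 𝒱`. -/
def n : FibCat.fp (BasedFunctor.comp f g) z ⥤ᵇ FibCat.fp g z :=
  FibCat.fpLift (BasedFunctor.comp (FibCat.fpFst (BasedFunctor.comp f g) z) f) (FibCat.fpSnd (BasedFunctor.comp f g) z)
    (FibCat.fpIso (BasedFunctor.comp f g) z)

/-- The 2-isomorphism of the cartesian square. -/
def mnIso : BasedFunctor.comp (m f g y z b β) (n f g z) ≅
    BasedFunctor.comp (FibCat.fpSnd f y) (FibCat.fpLift y b β) :=
  BasedNatIso.mkNatIso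
    (NatIso.ofComponents (fun t => ObjectProperty.isoMk _
      (CategoricalPullback.mkIso t.obj.iso (Iso.refl (b.obj t.obj.snd)) (by
        change g.map t.obj.iso.hom ≫ β.hom.toNatTrans.app t.obj.snd =
          (g.map t.obj.iso.hom ≫ β.hom.toNatTrans.app t.obj.snd) ≫ z.map (𝟙 _)
        rw [CategoryTheory.Functor.map_id]
        exact (Category.comp_id _).symm)))
      (fun {t t'} φ => by
        apply ObjectProperty.hom_ext
        apply CategoricalPullback.hom_ext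
        · exact φ.hom.w
        · change b.map φ.hom.snd ≫ 𝟙 _ = 𝟙 _ ≫ b.map φ.hom.snd
          simp))
    (fun t => by
      have h1 : 𝒴.p.IsHomLift (𝟙 (𝒳.p.obj t.obj.fst)) t.obj.iso.hom := t.property
      rw [← BasedFunctor.isHomLift_iff (FibCat.fpFst g z)]
      exact h1)

theorem isCart_m : K743.BC.IsCart (m f g y z b β) (FibCat.fpLift y b β) (FibCat.fpSnd f y) (n f g z)
    (mnIso f g y z b β) where
  full := ⟨fun {t t'} φ => by
    let α : t.obj.fst ⟶ t'.obj.fst := φ.hom.fst.hom.fst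
    let υ : t.obj.snd ⟶ t'.obj.snd := φ.hom.snd
    have w1 : f.map α ≫ t'.obj.iso.hom = t.obj.iso.hom ≫ y.map υ := congrArg (fun k => k.hom.fst) φ.hom.w
    have w2 : φ.hom.fst.hom.snd ≫ 𝟙 _ = 𝟙 _ ≫ b.map υ := congrArg (fun k => k.hom.snd) φ.hom.w
    rw [Category.comp_id, Category.id_comp] at w2
    refine ⟨ObjectProperty.homMk ⟨α, υ, w1⟩, ?_⟩
    apply ObjectProperty.hom_ext
    apply CategoricalPullback.hom_ext
    · apply ObjectProperty.hom_ext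
      exact CategoricalPullback.hom_ext rfl w2.symm
    · rfl⟩
  faithful := ⟨fun {t t'} φ ψ h => by
    have h1 : φ.hom.fst = ψ.hom.fst := congrArg (fun k => k.hom.fst.hom.fst) h
    have h2 : φ.hom.snd = ψ.hom.snd := congrArg (fun k => k.hom.snd) h
    exact ObjectProperty.hom_ext _ (CategoricalPullback.hom_ext h1 h2)⟩
  surj := by
    intro ζ
    have hζ := ζ.property
    let μ₁ : f.obj ζ.obj.fst.obj.fst ≅ y.obj ζ.obj.snd := (FibCat.fpFst g z).mapIso ζ.obj.iso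
    let μ₂ : ζ.obj.fst.obj.snd ≅ b.obj ζ.obj.snd := (FibCat.fpSnd g z).mapIso ζ.obj.iso
    have hμ₁ : 𝒴.p.IsHomLift (𝟙 (𝒳.p.obj ζ.obj.fst.obj.fst)) μ₁.hom :=
      @BasedFunctor.preserves_isHomLift _ _ _ _ (FibCat.fpFst g z) _ _ _ _ _ ζ.obj.iso.hom hζ
    have w : g.map μ₁.hom ≫ β.hom.toNatTrans.app ζ.obj.snd = ζ.obj.fst.obj.iso.hom ≫ z.map μ₂.hom :=
      ζ.obj.iso.hom.hom.w
    let t : (FibCat.fp f y).obj := ⟨⟨ζ.obj.fst.obj.fst, ζ.obj.snd, μ₁⟩, hμ₁⟩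
    have key : g.map (f.map (𝟙 ζ.obj.fst.obj.fst)) ≫ ζ.obj.fst.obj.iso.hom =
        (g.map μ₁.hom ≫ β.hom.toNatTrans.app ζ.obj.snd) ≫ z.map μ₂.inv := by
      rw [w, Category.assoc, ← z.toFunctor.map_comp, Iso.hom_inv_id, z.toFunctor.map_id, f.toFunctor.map_id,
        g.toFunctor.map_id]
      exact (Category.id_comp _).trans (Category.comp_id _).symm
    let i₁ : (m f g y z b β).obj t ≅ ζ.obj.fst := ObjectProperty.isoMk _
      (CategoricalPullback.mkIso (Iso.refl ζ.obj.fst.obj.fst) μ₂.symm key)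
    refine ⟨t, ObjectProperty.isoMk _ (CategoricalPullback.mkIso i₁ (Iso.refl ζ.obj.snd) ?_), ?_⟩
    · apply ObjectProperty.hom_ext
      apply CategoricalPullback.hom_ext
      · change f.map (𝟙 ζ.obj.fst.obj.fst) ≫ μ₁.hom = μ₁.hom ≫ y.map (𝟙 ζ.obj.snd)
        rw [f.toFunctor.map_id, y.toFunctor.map_id]
        exact (Category.id_comp _).trans (Category.comp_id _).symm
      · change μ₂.inv ≫ μ₂.hom = 𝟙 _ ≫ b.map (𝟙 ζ.obj.snd)
        rw [b.toFunctor.map_id, Iso.inv_hom_id]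
        exact (Category.comp_id _).symm
    · rw [← BasedFunctor.isHomLift_iff (FibCat.fpFst (n f g z) (FibCat.fpLift y b β)),
        ← BasedFunctor.isHomLift_iff (FibCat.fpFst (BasedFunctor.comp f g) z)]
      exact IsHomLift.id rfl

end

section Lift

variable {C : Type u} [Category.{v} C] {𝒳 : BasedCategory.{v₂, u₂} C} {𝒴 : BasedCategory.{v₃, u₃} C}
  {𝒱 : BasedCategory.{v₅, u₅} C} {𝒲 : BasedCategory.{v₆, u₆} C} (f : 𝒳 ⥤ᵇ 𝒴) (y : 𝒱 ⥤ᵇ 𝒴)
  (w : 𝒲 ⥤ᵇ FibCat.fp f y) {b : 𝒲 ⥤ᵇ 𝒱} (i : BasedFunctor.comp w (FibCat.fpSnd f y) ≅ b)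

/-- The 2-isomorphism of the square attached to a functor to the 2-fibre product. -/
def sqIso : BasedFunctor.comp (BasedFunctor.comp w (FibCat.fpFst f y)) f ≅ BasedFunctor.comp b y :=
  K743.BC.whiskerLeftIso w (FibCat.fpIso f y) ≪≫ K743.BC.whiskerRightIso i y

/-- The component at `t` of a 2-isomorphism, as an isomorphism. -/
def appIso {F G : 𝒲 ⥤ᵇ 𝒱} (i : F ≅ G) (t : 𝒲.obj) : F.obj t ≅ G.obj t where
  hom := i.hom.toNatTrans.app t
  inv := i.inv.toNatTrans.app t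
  hom_inv_id := congrArg (fun x => x.toNatTrans.app t) i.hom_inv_id
  inv_hom_id := congrArg (fun x => x.toNatTrans.app t) i.inv_hom_id

/-- A functor to the 2-fibre product is the lift of its components. -/
theorem nonempty_iso_fpLift :
    Nonempty (w ≅ FibCat.fpLift (BasedFunctor.comp w (FibCat.fpFst f y)) b (sqIso f y w i)) := by
  refine ⟨BasedNatIso.mkNatIso (NatIso.ofComponents (fun t => ObjectProperty.isoMk _
      (CategoricalPullback.mkIso (Iso.refl _) (appIso i t) ?_)) (fun {t t'} φ => ?_)) (fun t => ?_)⟩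
  · change f.map (𝟙 _) ≫ (w.obj t).obj.iso.hom ≫ y.map (i.hom.toNatTrans.app t) =
      (w.obj t).obj.iso.hom ≫ y.map (i.hom.toNatTrans.app t)
    rw [f.toFunctor.map_id]
    exact Category.id_comp _
  · apply ObjectProperty.hom_ext
    apply CategoricalPullback.hom_ext
    · change (w.map φ).hom.fst ≫ 𝟙 _ = 𝟙 _ ≫ (w.map φ).hom.fst
      simp
    · exact i.hom.toNatTrans.naturality φ
  · rw [← BasedFunctor.isHomLift_iff (FibCat.fpFst f y)]
    exact IsHomLift.id ((BasedFunctor.comp w (FibCat.fpFst f y)).w_obj t)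

end Lift

section Chart

variable {S : Scheme.{u}} {𝒳 : BasedCategory.{v₂, u₂} (Over S)} {𝒴 : BasedCategory.{v₃, u₃} (Over S)}
  {𝒵 : BasedCategory.{v₄, u₄} (Over S)}

/-- The component of `overMapComp`. -/
def overMapCompApp {U V W : Over S} (a : U ⟶ V) (b : V ⟶ W) (t : Over U) :
    (Over.map b).obj ((Over.map a).obj t) ≅ (Over.map (a ≫ b)).obj t :=
  Over.isoMk (Iso.refl t.left) (by
    change 𝟙 _ ≫ t.hom ≫ a ≫ b = (t.hom ≫ a) ≫ b
    rw [Category.id_comp, Category.assoc])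

/-- `overMap` of a composite. -/
def overMapComp {U V W : Over S} (a : U ⟶ V) (b : V ⟶ W) :
    BasedFunctor.comp (AlgSt.overMap a) (AlgSt.overMap b) ≅ AlgSt.overMap (a ≫ b) :=
  BasedNatIso.mkNatIso (NatIso.ofComponents (fun t => overMapCompApp a b t) (fun {t t'} φ => by
      apply Over.OverMorphism.ext
      change φ.left ≫ 𝟙 _ = 𝟙 _ ≫ φ.left
      simp))
    (fun t => by
      have : (FibCat.overCat W).p.IsHomLift ((FibCat.overCat W).p.map (overMapCompApp a b t).hom)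
        (overMapCompApp a b t).hom := inferInstance
      exact this)

/-- A square of smooth charts over `f`, with smooth map to the 2-fibre product. -/
def GoodSq (f : 𝒳 ⥤ᵇ 𝒴) {U V : Over S} (x : FibCat.overCat U ⥤ᵇ 𝒳) (y : FibCat.overCat V ⥤ᵇ 𝒴) (h : U ⟶ V) : Prop :=
  ∃ α : BasedFunctor.comp x f ≅ BasedFunctor.comp (AlgSt.overMap h) y,
    AlgSt.RepByAlgSpWith (AlgSp.LocP @Smooth) (FibCat.fpLift x (AlgSt.overMap h) α)

/-- The 2-isomorphism of the composite square of charts. -/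
def compIso {f : 𝒳 ⥤ᵇ 𝒴} {g : 𝒴 ⥤ᵇ 𝒵} {U V W : Over S} {x : FibCat.overCat U ⥤ᵇ 𝒳} {y : FibCat.overCat V ⥤ᵇ 𝒴}
    {z : FibCat.overCat W ⥤ᵇ 𝒵} {a : U ⟶ V} {b : V ⟶ W} (α : BasedFunctor.comp x f ≅ BasedFunctor.comp (AlgSt.overMap a) y)
    (β : BasedFunctor.comp y g ≅ BasedFunctor.comp (AlgSt.overMap b) z) :
    BasedFunctor.comp x (BasedFunctor.comp f g) ≅ BasedFunctor.comp (AlgSt.overMap (a ≫ b)) z :=
  (K743.BC.whiskerRightIso α g ≪≫ K743.BC.whiskerLeftIso (AlgSt.overMap a) β) ≪≫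
    K743.BC.whiskerRightIso (overMapComp a b) z

/-- The composite lift through `m`. -/
theorem nonempty_lift_iso {f : 𝒳 ⥤ᵇ 𝒴} {g : 𝒴 ⥤ᵇ 𝒵} {U V W : Over S} {x : FibCat.overCat U ⥤ᵇ 𝒳} {y : FibCat.overCat V ⥤ᵇ 𝒴}
    {z : FibCat.overCat W ⥤ᵇ 𝒵} {a : U ⟶ V} {b : V ⟶ W} (α : BasedFunctor.comp x f ≅ BasedFunctor.comp (AlgSt.overMap a) y)
    (β : BasedFunctor.comp y g ≅ BasedFunctor.comp (AlgSt.overMap b) z) :
    Nonempty (BasedFunctor.comp (FibCat.fpLift x (AlgSt.overMap a) α) (m f g y z (AlgSt.overMap b) β) ≅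
      FibCat.fpLift x (AlgSt.overMap (a ≫ b)) (compIso α β)) := by
  refine ⟨BasedNatIso.mkNatIso (NatIso.ofComponents (fun t => ObjectProperty.isoMk _
      (CategoricalPullback.mkIso (Iso.refl (x.obj t)) (overMapCompApp a b t) ?_)) (fun {t t'} φ => ?_)) (fun t => ?_)⟩
  · change g.map (f.map (𝟙 (x.obj t))) ≫ (g.map (α.hom.toNatTrans.app t) ≫ β.hom.toNatTrans.app ((AlgSt.overMap a).obj t)) ≫
      z.map (overMapCompApp a b t).hom = (g.map (α.hom.toNatTrans.app t) ≫ β.hom.toNatTrans.app ((AlgSt.overMap a).obj t)) ≫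
        z.map (overMapCompApp a b t).hom
    rw [f.toFunctor.map_id, g.toFunctor.map_id]
    exact Category.id_comp _
  · apply ObjectProperty.hom_ext
    apply CategoricalPullback.hom_ext
    · change x.map φ ≫ 𝟙 _ = 𝟙 _ ≫ x.map φ
      simp
    · apply Over.OverMorphism.ext
      change φ.left ≫ 𝟙 _ = 𝟙 _ ≫ φ.left
      simp
  · rw [← BasedFunctor.isHomLift_iff (FibCat.fpFst (BasedFunctor.comp f g) z)]
    exact IsHomLift.id (x.w_obj t)

end Chart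

end K742.Sq
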